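import Cfsg.Agent.Omega.OM.PG.ExactQ

/-!
# THEOREM R / THEOREM N, form (1a) (all `q`, all levels)

`(a, b)` an `X`-critical pair with `X_a = N_a C_{X_a}(X_b)`, `y ≤ X_a` moved by `N_b`, `n ∈ Q_a` a square root of `1`
which centralises `X_a`, with `[n, C(X_a)] ≤ y`.  Then **`[n, N_b] ≤ N_a`** (`comm_mem`).

`comm_mem'` : the same for a point `y` with `y ∩ N_a = 1`.
-/

set_option autoImplicit false
set_option linter.unusedSectionVars false

namespace Cfsg.Agent.Omega.TCQ.R.OneA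

open Subgroup Cfsg
open Cfsg.Agent.ZN Cfsg.Agent.Omega.OM.PG Cfsg.Agent.Omega.OM.PG.Peel Cfsg.Agent.Omega.OM.PG.PeelQ Cfsg.Agent.Omega.OM.PG.ExactQ
open Cfsg.Agent.Omega.NO3S.EThree Cfsg.Agent.Omega.NO3S.EThree.ExactA
open Cfsg.Agent.Omega.NoFF.Basic (comm_symm)
open scoped Pointwise

universe u

variable {G : Type u} [Group G] [Finite G]

/-- `|W : C_W(B)| ≤ |N : C_N(B)|`, `N ≤ W` : `W = N C_W(B)`. -/
theorem sup_of_relIndex {N W B : Subgroup G} (hNW : N ≤ W)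
    (h : (centralizer (B : Set G)).relIndex W ≤ (centralizer (B : Set G)).relIndex N) :
    W ≤ N ⊔ (W ⊓ centralizer (B : Set G)) := by
  set D := W ⊓ centralizer (B : Set G) with hD
  have f1 : D.relIndex W = (centralizer (B : Set G)).relIndex W := inf_relIndex_left _ _
  have f3 : D.relIndex N = (centralizer (B : Set G)).relIndex N := by
    rw [← inf_relIndex_right D, ← inf_relIndex_right (centralizer (B : Set G)), hD, inf_comm W, inf_assoc,
      inf_eq_right.2 hNW]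
  have f6 := relIndex_mul_relIndex D (N ⊔ D) W le_sup_right (sup_le hNW inf_le_left)
  have f7 : D.relIndex N ≤ D.relIndex (N ⊔ D) := relIndex_le_of_le_right le_sup_left index_ne_zero_of_finite
  have f8 := rel_pos D (N ⊔ D)
  have f9 : (N ⊔ D).relIndex W ≤ 1 := by
    have f10 : D.relIndex (N ⊔ D) * (N ⊔ D).relIndex W ≤ D.relIndex (N ⊔ D) * 1 := by
      rw [f6, f1, mul_one]
      exact (h.trans f3.ge).trans f7
    exact Nat.le_of_mul_le_mul_left f10 f8
  have f11 := rel_pos (N ⊔ D) W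
  exact relIndex_eq_one.1 (by omega)

section main

variable {Z U : Fin 2 → Subgroup G} {X : Subgroup G → Subgroup G} {d : ℕ} {a b : Subgroup G}

/-- **(1a).** -/
theorem comm_mem (P : PP Z U) (F : XF Z X) (hNO : NoP Z) (h : CX Z X d a b)
    (hex : X a ≤ NN Z a ⊔ (X a ⊓ centralizer (X b : Set G))) {y : Subgroup G}
    (hTI : ∀ u ∈ y, u ≠ 1 → (∀ f ∈ NN Z b, f * u = u * f) → NN Z b ≤ centralizer (y : Set G))
    (hmv : ¬ NN Z b ≤ centralizer (y : Set G)) {n : G} (hnQ : n ∈ QQ a) (hn2 : n * n = 1)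
    (hnX : n ∈ centralizer (X a : Set G)) (hny : ∀ c ∈ centralizer (X a : Set G), n * c * n⁻¹ * c⁻¹ ∈ y)
    {f : G} (hf : f ∈ NN Z b) : n * f * n⁻¹ * f⁻¹ ∈ NN Z a := by
  have hap : IsPt Z a := PP.pth_pt h.pth
  have hbp : IsPt Z b := P.pth_pt' h.pth
  -- an element of `y` which commutes with `N_b` is `1`
  have hy1 : ∀ u ∈ y, (∀ f ∈ NN Z b, f * u = u * f) → u = 1 := by
    intro u hu hc
    by_contra hne
    exact hmv (hTI u hu hne hc)
  -- down the path
  have key : ∀ m : ℕ, m ≤ d → ∀ c : Subgroup G, Pth Z m a c → ∀ e : ℕ, e + m = d + 1 → Pth Z e c b → n ∈ QQ c := by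
    intro m
    induction m with
    | zero =>
      intro _ c hc e _ _
      cases hc with
      | zero _ => exact hnQ
    | succ m ih =>
      intro hm c hc e he hcb
      have hXX := h.com _ hm a c hc
      have hcp := PP.pth_pt hcb
      cases hc with
      | @succ _ _ c' _ h2 h3 =>
        have hn' : n ∈ QQ c' := ih (by omega) c' h2 (e + 1) (by omega) (PP.pth_cons h3 hcb)
        have hnH : n ∈ HH c := P.QQ_le_HH (P.adj_symm h3) hn'
        have hnn : n ∈ normalizer (X c : Set G) := CX.nor_X F hcp hnH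
        have hcb' : X c ≤ centralizer (X b : Set G) := h.com e (by omega) c b hcb
        refine P.f3 (P.adj_symm h3) (E := zpowers n) (by rwa [zpowers_le]) ?_ (mem_zpowers n)
        rw [zpowers_le]
        refine mem_centralizer_iff.2 fun x hx => ?_
        have hxX : x ∈ X c := F.NX _ hcp hx
        have hxa : x ∈ centralizer (X a : Set G) := (comm_symm hXX) hxX
        have h4 : n * x * n⁻¹ * x⁻¹ ∈ y := hny x hxa
        have h5 : n * x * n⁻¹ * x⁻¹ ∈ X c := mul_mem ((mem_normalizer_iff.1 hnn x).1 hxX) (inv_mem hxX)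
        have h6 : n * x * n⁻¹ * x⁻¹ = 1 := hy1 _ h4 fun f hf =>
          mem_centralizer_iff.1 (hcb' h5) f (F.NX _ hbp hf)
        exact ((mul_inv_eq_iff_eq_mul.1 ((mul_inv_eq_one.1 h6)))).symm
  -- the last vertex before `b`
  obtain ⟨c', hc', hcb, hnc⟩ : ∃ c', Pth Z d a c' ∧ Adj Z c' b ∧ n ∈ QQ c' := by
    have hp := h.pth
    cases hp with
    | @succ _ _ c' _ h1 h2 => exact ⟨c', h1, h2, key d le_rfl c' h1 1 (by omega) (PP.pth_one h2)⟩
  have hXc : X a ≤ QQ c' := h.X_le_QQ P F d le_rfl _ _ hc'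
  -- the first vertex
  obtain ⟨a', b', ha', -, -, hXb⟩ := h.ends P F
  have hnb : n ∈ centralizer (b : Set G) := P.QQ_le_cent_of_adj (P.adj_symm hcb) hnc
  have hnN : n ∈ normalizer (NN Z b : Set G) := PP.HH_le_NN b (PP.cent_le_HH b hnb)
  have hNb := (eab_iff.1 (NN_eab P hbp)).1
  have hNa := (eab_iff.1 (NN_eab P hap)).1
  have hXa := eab_iff.1 (F.eab a hap)
  -- `C_{N_b}(N_a)` centralises `X_a` and `n`
  have hL1 : NN Z b ⊓ centralizer (NN Z a : Set G) ≤ centralizer (X a : Set G) := by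
    intro g hg
    refine mem_centralizer_iff.2 fun x hx => ?_
    obtain ⟨m, hm, c, hc, rfl⟩ := exists_mul_of_comm (V := NN Z a) (D := X a ⊓ centralizer (X b : Set G))
      ((F.NX a hap).trans (hXa.1.trans (centralizer_le inf_le_left))) (hex hx)
    have e1 : m * g = g * m := mem_centralizer_iff.1 hg.2 m hm
    have e2 : c * g = g * c := (mem_centralizer_iff.1 hc.2 g (F.NX _ hbp hg.1)).symm
    calc m * c * g = m * (c * g) := by group
      _ = (m * g) * c := by rw [e2]; group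
      _ = g * (m * c) := by rw [e1]; group
  have hL2 : ∀ g ∈ NN Z b ⊓ centralizer (NN Z a : Set G), n * g = g * n := by
    intro g hg
    have h4 : n * g * n⁻¹ * g⁻¹ ∈ y := hny g (hL1 hg)
    have h5 : n * g * n⁻¹ * g⁻¹ ∈ NN Z b := mul_mem ((mem_normalizer_iff.1 hnN g).1 hg.1) (inv_mem hg.1)
    have h6 : n * g * n⁻¹ * g⁻¹ = 1 := hy1 _ h4 fun f hf => mem_centralizer_iff.1 (hNb h5) f hf
    exact mul_inv_eq_iff_eq_mul.1 (mul_inv_eq_one.1 h6)
  -- `X_* = X_a ⟨n⟩`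
  set W := X a ⊔ zpowers n with hW
  have hzX : zpowers n ≤ centralizer (X a : Set G) := by rwa [zpowers_le]
  have hWe : IsElementaryAbelian 2 W := by
    refine eab_sup (F.eab a hap) ?_ (comm_symm hzX)
    rw [eab_iff]
    refine ⟨by rw [zpowers_le]; exact mem_centralizer_iff.2 (by rintro _ ⟨k, rfl⟩; exact (Commute.refl n).zpow_left k),
      ?_⟩
    rintro _ ⟨k, rfl⟩
    change (n ^ k) ^ 2 = 1
    rw [← zpow_natCast, ← zpow_mul, mul_comm, zpow_mul, zpow_natCast, pow_two, hn2, one_zpow]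
  have hWQ : W ≤ QQ c' := sup_le hXc (by rwa [zpowers_le])
  have h1 := hNO c' b hcb W hWe hWQ
  have h2 := hNO a' a ha' (NN Z b) (NN_eab P hbp) ((F.NX b hbp).trans hXb)
  have h3 : (centralizer (W : Set G)).relIndex (NN Z b) = (centralizer (NN Z a : Set G)).relIndex (NN Z b) := by
    rw [← inf_relIndex_left, ← inf_relIndex_left (NN Z b) (centralizer (NN Z a : Set G))]
    congr 1
    refine le_antisymm (inf_le_inf_left _ (centralizer_le ((F.NX a hap).trans le_sup_left))) (le_inf inf_le_left ?_)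
    refine comm_symm (sup_le (comm_symm hL1) ?_)
    rw [zpowers_le]
    exact mem_centralizer_iff.2 fun g hg => (hL2 g hg).symm
  have h4 : W ≤ NN Z a ⊔ (W ⊓ centralizer (NN Z b : Set G)) :=
    sup_of_relIndex ((F.NX a hap).trans le_sup_left) ((h1.trans h3.le).trans h2)
  have hnW : n ∈ W := mem_sup_right (mem_zpowers n)
  obtain ⟨m, hm, c, hc, rfl⟩ := exists_mul_of_comm (V := NN Z a) (D := W ⊓ centralizer (NN Z b : Set G))
    ((((F.NX a hap).trans le_sup_left).trans (eab_iff.1 hWe).1).trans (centralizer_le inf_le_left)) (h4 hnW)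
  have hfN : f ∈ normalizer (NN Z a : Set G) :=
    PP.HH_le_NN a (P.QQ_le_HH (P.adj_symm ha') (hXb (F.NX b hbp hf)))
  have e1 : c * f = f * c := (mem_centralizer_iff.1 hc.2 f hf).symm
  have e2 : m * c * f * (m * c)⁻¹ * f⁻¹ = m * (f * m⁻¹ * f⁻¹) := by
    calc m * c * f * (m * c)⁻¹ * f⁻¹ = m * (c * f) * c⁻¹ * m⁻¹ * f⁻¹ := by group
      _ = m * (f * c) * c⁻¹ * m⁻¹ * f⁻¹ := by rw [e1]
      _ = _ := by group
  rw [e2]
  exact mul_mem hm ((mem_normalizer_iff.1 hfN _).1 (inv_mem hm))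

/-- `[X_a, N_b] ≤ N_a` -/
theorem comm_X (P : PP Z U) (F : XF Z X) (h : CX Z X d a b)
    (hex : X a ≤ NN Z a ⊔ (X a ⊓ centralizer (X b : Set G))) {x f : G} (hx : x ∈ X a) (hf : f ∈ NN Z b) :
    x * f * x⁻¹ * f⁻¹ ∈ NN Z a := by
  have hap : IsPt Z a := PP.pth_pt h.pth
  have hbp : IsPt Z b := P.pth_pt' h.pth
  obtain ⟨a', b', ha', -, -, hXb⟩ := h.ends P F
  have hXa := eab_iff.1 (F.eab a hap)
  have hfN : f ∈ normalizer (NN Z a : Set G) :=
    PP.HH_le_NN a (P.QQ_le_HH (P.adj_symm ha') (hXb (F.NX b hbp hf)))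
  obtain ⟨m, hm, c, hc, rfl⟩ := exists_mul_of_comm (V := NN Z a) (D := X a ⊓ centralizer (X b : Set G))
    ((F.NX a hap).trans (hXa.1.trans (centralizer_le inf_le_left))) (hex hx)
  have e1 : c * f = f * c := (mem_centralizer_iff.1 hc.2 f (F.NX b hbp hf)).symm
  have e2 : m * c * f * (m * c)⁻¹ * f⁻¹ = m * (f * m⁻¹ * f⁻¹) := by
    calc m * c * f * (m * c)⁻¹ * f⁻¹ = m * (c * f) * c⁻¹ * m⁻¹ * f⁻¹ := by group
      _ = m * (f * c) * c⁻¹ * m⁻¹ * f⁻¹ := by rw [e1]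
      _ = _ := by group
  rw [e2]
  exact mul_mem hm ((mem_normalizer_iff.1 hfN _).1 (inv_mem hm))

/-- **(1a) for a point `y ≤ X_a` with `y ∩ N_a = 1`.** -/
theorem comm_mem' (P : PP Z U) (F : XF Z X) (hNO : NoP Z) (hti : TIp Z) (h : CX Z X d a b)
    (hex : X a ≤ NN Z a ⊔ (X a ⊓ centralizer (X b : Set G))) {y : Subgroup G} (hy : IsPt Z y) (hyX : y ≤ X a)
    (hyN : y ⊓ NN Z a = ⊥) (hmv : ¬ NN Z b ≤ centralizer (y : Set G)) {n : G} (hnQ : n ∈ QQ a) (hn2 : n * n = 1)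
    (hnX : n ∈ centralizer (X a : Set G)) (hny : ∀ c ∈ centralizer (X a : Set G), n * c * n⁻¹ * c⁻¹ ∈ y)
    {f : G} (hf : f ∈ NN Z b) : n * f * n⁻¹ * f⁻¹ ∈ NN Z a := by
  refine comm_mem P F hNO h hex (y := y) ?_ hmv hnQ hn2 hnX hny hf
  intro u hu hu1 hc g hg
  have h1 : MulAut.conj g • y = y := by
    by_contra hne
    refine hu1 (ti_one hti (hy.conj g) hy hne ?_ hu)
    refine ⟨u, hu, ?_⟩
    change g * u * g⁻¹ = u
    rw [hc g hg, mul_inv_cancel_right]
  refine mem_centralizer_iff.2 fun v hv => ?_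
  have h2 : v * g * v⁻¹ * g⁻¹ ∈ NN Z a := comm_X P F h hex (hyX hv) hg
  have h3 : g * v⁻¹ * g⁻¹ ∈ y := by
    rw [← h1]
    exact ⟨v⁻¹, inv_mem hv, rfl⟩
  have h4 : v * g * v⁻¹ * g⁻¹ ∈ y ⊓ NN Z a := by
    refine ⟨?_, h2⟩
    have e : v * g * v⁻¹ * g⁻¹ = v * (g * v⁻¹ * g⁻¹) := by group
    rw [e]
    exact mul_mem hv h3
  rw [hyN, mem_bot] at h4
  exact mul_inv_eq_iff_eq_mul.1 (mul_inv_eq_one.1 h4)

end main

end Cfsg.Agent.Omega.TCQ.R.OneA
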