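import Cfsg.Agent.Omega.TCQ.R.ThNa

/-!
# (E): no canonical vectors (helper381, THEOREM N #23328), the abstract end: (3) - (5)

`NV.false : NV E b l Np Zc W B S T C K X0 L' q → False`.
-/

set_option autoImplicit false
set_option linter.unusedSectionVars false

namespace Cfsg.Agent.Omega.TCQ.R.ThN

open Subgroup Cfsg Cfsg.Agent.ZN
open Cfsg.Agent.ZN.ChoiceSit (Syl)

universe u

variable {G : Type u} [Group G]

/-- `m = n_b(v)` for some `v` -/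
def Mm (l Np X0 : Subgroup G) (m : G) : Prop := m ∈ Np ∧ ∃ v ∈ l, v * m ∈ X0

/-- `F = l ⟨n_y(v)⟩` -/
def FF (E l Np X0 : Subgroup G) : Subgroup G :=
  closure {f | f ∈ l ∨ ∃ e ∈ E, ∃ m, Mm l Np X0 m ∧ f = e * m * e⁻¹}

/-- `e ∈ E`, `[S, e] ≤ C(F)` -/
def InD (E l Np S X0 : Subgroup G) (e : G) : Prop :=
  e ∈ E ∧ ∀ t ∈ S, e * t * e⁻¹ * t⁻¹ ∈ centralizer (FF E l Np X0 : Set G)

theorem lF {E l Np X0 : Subgroup G} : l ≤ FF E l Np X0 := fun _ hx => subset_closure (Or.inl hx)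

theorem eF {E l Np X0 : Subgroup G} {e m : G} (he : e ∈ E) (hm : Mm l Np X0 m) : e * m * e⁻¹ ∈ FF E l Np X0 :=
  subset_closure (Or.inr ⟨e, he, m, hm, rfl⟩)

namespace NV

variable [Finite G] {E b l Np Zc W B S T C K X0 L' : Subgroup G} {q : ℕ} (h : NV E b l Np Zc W B S T C K X0 L' q)
include h

theorem FW : FF E l Np X0 ≤ W := (closure_le _).2 (by
  rintro x (hx | ⟨e, he, m, hm, rfl⟩)
  · exact h.lW hx
  · exact h.MW e he m hm.1 hm.2)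

theorem Mm_conj {e m : G} (he : e ∈ E) (heb : e ∈ normalizer (b : Set G)) (hm : Mm l Np X0 m) :
    Mm l Np X0 (e * m * e⁻¹) := by
  obtain ⟨h1, v, hv, h2⟩ := hm
  refine ⟨nm (h.EN ⟨he, heb⟩) h1, e * v * e⁻¹, nm (h.El he) hv, ?_⟩
  have h3 := nm (h.EX ⟨he, heb⟩) h2
  have e1 : e * v * e⁻¹ * (e * m * e⁻¹) = e * (v * m) * e⁻¹ := by group
  rwa [e1]

theorem Mm_cmp {v m m' : G} (hv : v ∈ l) (hm : m ∈ Np) (hm' : m' ∈ Np) (h1 : v * m ∈ X0) (h2 : v * m' ∈ X0) :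
    m' * m⁻¹ ∈ b := by
  refine h.XN _ ?_ (mul_mem hm' (inv_mem hm))
  have h3 := mul_mem h2 (inv_mem h1)
  have e1 : v * m' * (v * m)⁻¹ = m' * m⁻¹ := by
    have h4 := h.Wc _ (h.lW hv) _ (h.NW (mul_mem hm' (inv_mem hm)))
    calc v * m' * (v * m)⁻¹ = v * (m' * m⁻¹) * v⁻¹ := by group
      _ = m' * m⁻¹ := by rw [h4]; group
  rwa [e1] at h3

theorem cl_nb {c : G} (hc : c ∈ centralizer (l : Set G)) : c ∈ normalizer (b : Set G) :=
  cn (centralizer_le h.bl hc)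

theorem Mm_ct {c m : G} (hcE : c ∈ E) (hc : c ∈ centralizer (l : Set G)) (hm : Mm l Np X0 m) : ct c m ∈ b := by
  obtain ⟨h1, v, hv, h2⟩ := hm
  refine h.Mm_cmp hv h1 (nm (h.EN ⟨hcE, h.cl_nb hc⟩) h1) h2 ?_
  have h3 := nm (h.EX ⟨hcE, h.cl_nb hc⟩) h2
  have e1 : c * (v * m) * c⁻¹ = (c * v * c⁻¹) * (c * m * c⁻¹) := by group
  rw [e1, cm hc hv] at h3
  exact h3

theorem Mm_ct' {c e m : G} (he : e ∈ E) (hcE : c ∈ E) (hc : c ∈ centralizer (l : Set G)) (hm : Mm l Np X0 m) :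
    e⁻¹ * ct c (e * m * e⁻¹) * e ∈ b := by
  have h1 := h.Mm_ct (c := e⁻¹ * c * e) (mul_mem (mul_mem (inv_mem he) hcE) he) (nc' (h.El he) hc) hm
  have e1 : e⁻¹ * ct c (e * m * e⁻¹) * e = ct (e⁻¹ * c * e) m := by
    change e⁻¹ * (c * (e * m * e⁻¹) * c⁻¹ * (e * m * e⁻¹)⁻¹) * e =
      e⁻¹ * c * e * m * (e⁻¹ * c * e)⁻¹ * m⁻¹
    group
  rwa [e1]

theorem mem_l_of {e x : G} (he : e ∈ E) (hx : e⁻¹ * x * e ∈ b) : x ∈ l := by
  have h1 := nm (h.El he) (h.bl hx)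
  have e1 : e * (e⁻¹ * x * e) * e⁻¹ = x := by group
  rwa [e1] at h1

theorem F_conj {e f : G} (he : e ∈ E) (hf : f ∈ FF E l Np X0) : e * f * e⁻¹ ∈ FF E l Np X0 := by
  unfold FF at hf
  induction hf using closure_induction with
  | mem x hx =>
    rcases hx with hx | ⟨g, hg, m, hm, rfl⟩
    · exact lF (nm (h.El he) hx)
    · have e1 : e * (g * m * g⁻¹) * e⁻¹ = (e * g) * m * (e * g)⁻¹ := by group
      rw [e1]
      exact eF (mul_mem he hg) hm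
  | one => rw [mul_one, mul_inv_cancel]; exact one_mem _
  | mul x y _ _ hx hy =>
    have e1 : e * (x * y) * e⁻¹ = (e * x * e⁻¹) * (e * y * e⁻¹) := by group
    rw [e1]
    exact mul_mem hx hy
  | inv x _ hx =>
    have e1 : e * x⁻¹ * e⁻¹ = (e * x * e⁻¹)⁻¹ := by group
    rw [e1]
    exact inv_mem hx

theorem EF : E ≤ normalizer (FF E l Np X0 : Set G) := fun _ he => norm_of fun _ hx => h.F_conj he hx

/-- an induction principle for the elements of `F` -/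
theorem F_ind {p : G → Prop} (h1 : ∀ x ∈ l, p x) (h2 : ∀ e ∈ E, ∀ m, Mm l Np X0 m → p (e * m * e⁻¹))
    (h3 : ∀ x ∈ FF E l Np X0, ∀ y ∈ FF E l Np X0, p x → p y → p (x * y)) {x : G} (hx : x ∈ FF E l Np X0) : p x := by
  have key : ∀ x, x ∈ FF E l Np X0 → p x ∧ p x⁻¹ := by
    intro x hx
    have hx' := hx
    unfold FF at hx
    induction hx using closure_induction with
    | mem x hx =>
      rcases hx with hx | ⟨e, he, m, hm, rfl⟩
      · exact ⟨h1 x hx, h1 _ (inv_mem hx)⟩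
      · refine ⟨h2 e he m hm, ?_⟩
        have h4 := h.Wsq _ (h.FW (eF he hm))
        have h5 : (e * m * e⁻¹)⁻¹ = e * m * e⁻¹ := by
          rw [inv_eq_iff_mul_eq_one, ← pow_two]; exact h4
        rw [h5]
        exact h2 e he m hm
    | one => exact ⟨h1 1 (one_mem _), by rw [inv_one]; exact h1 1 (one_mem _)⟩
    | mul x y hx hy ihx ihy =>
      have a := ihx hx
      have c := ihy hy
      refine ⟨h3 x hx y hy a.1 c.1, ?_⟩
      rw [mul_inv_rev]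
      exact h3 _ (inv_mem hy) _ (inv_mem hx) c.2 a.2
    | inv x hx ihx =>
      have a := ihx hx
      exact ⟨a.2, by rw [inv_inv]; exact a.1⟩
  exact (key x hx).1

theorem SE : S ≤ E := h.SB.trans h.BE

theorem SC : S ≤ C := h.SB.trans h.BC

theorem F_ct {c f : G} (hcE : c ∈ E) (hcW : c ∈ normalizer (W : Set G)) (hc : c ∈ centralizer (l : Set G))
    (hf : f ∈ FF E l Np X0) : ct c f ∈ l := by
  refine h.F_ind (p := fun f => ct c f ∈ l) (fun x hx => ?_) (fun e he m hm => ?_)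
    (fun x hx y hy ihx ihy => ?_) hf
  · rw [ct_eq_one.2 (cm' hc hx)]; exact one_mem _
  · exact h.mem_l_of he (h.Mm_ct' he hcE hc hm)
  · rw [ct_mul h.Wc hcW (h.FW hx) (h.FW hy)]
    exact mul_mem ihx ihy

/-- **(3), first half** -/
theorem claimA {s t f : G} (hs : s ∈ K) (hsl : s ∈ normalizer (l : Set G)) (ht : t ∈ S)
    (hf : f ∈ FF E l Np X0) : ct t (s * f * s⁻¹) = s * ct t f * s⁻¹ := by
  have hsE : s ∈ E := h.KE ⟨hs, hsl⟩
  have hsC : s ∈ C := h.KC hs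
  have hsb : s ∈ centralizer (b : Set G) := h.Cb hsC
  have htl := h.Sl ht
  have htW := h.SW ht
  have htE := h.SE ht
  have hsW := h.CW hsC
  refine h.F_ind (p := fun f => ct t (s * f * s⁻¹) = s * ct t f * s⁻¹) (fun x hx => ?_) (fun e he m hm => ?_)
    (fun x hx y hy ihx ihy => ?_) hf
  · rw [ct_eq_one.2 (cm' htl hx), ct_eq_one.2 (cm' htl (nm hsl hx))]
    group
  · by_cases heb : e ∈ normalizer (b : Set G)
    · -- `e ∈ N(b)`
      have hm' := h.Mm_conj he heb hm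
      set f := e * m * e⁻¹ with hfdef
      have hm2 := hm'
      obtain ⟨h1, v, hv, h2⟩ := hm2
      -- `s f s⁻¹ f⁻¹ ∈ b`
      have h3 : s * f * s⁻¹ * f⁻¹ ∈ b := by
        refine h.Mm_cmp hv h1 (nm (h.CN hsC) h1) h2 ?_
        have h4 := nm (h.KX hs) h2
        have h5 : s * v * s⁻¹ * v⁻¹ ∈ b := h.lN _ (mul_mem (nm hsl hv) (inv_mem hv)) (h.Kl s hs v hv)
        have e1 : v * (s * f * s⁻¹) = (s * v * s⁻¹ * v⁻¹)⁻¹ * (s * (v * f) * s⁻¹) := by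
          have h6 := h.Wc _ (h.lW hv) _ (h.lW (nm hsl hv))
          calc v * (s * f * s⁻¹) = v * (s * v⁻¹ * s⁻¹) * (s * (v * f) * s⁻¹) := by group
            _ = (s * v * s⁻¹ * v⁻¹)⁻¹ * (s * (v * f) * s⁻¹) := by group
        rw [e1]
        exact mul_mem (inv_mem (h.bX h5)) h4
      have h7 : ct t f ∈ b := h.Mm_ct htE htl hm'
      have e2 : s * f * s⁻¹ = (s * f * s⁻¹ * f⁻¹) * f := by group
      rw [e2, ct_mul h.Wc htW (h.bW h3) (h.NW h1), ct_eq_one.2 (cm' htl (h.bl h3)), one_mul, cm hsb h7]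
    · -- `e ∉ N(b)`
      obtain ⟨u, hu, n, hn, e1⟩ := h.mv s hs hsl e he heb m hm.1 hm.2
      have hfW : e * m * e⁻¹ ∈ W := h.FW (eF he hm)
      have huW : e * u * e⁻¹ ∈ l := nm (h.El he) (h.bl hu)
      have hA : ct t (s * (e * m * e⁻¹) * s⁻¹) = ct t (e * m * e⁻¹) * ct t n := by
        rw [e1, ct_mul h.Wc htW (mul_mem hfW (h.lW huW)) (h.NW hn), ct_mul h.Wc htW hfW (h.lW huW),
          ct_eq_one.2 (cm' htl huW), mul_one]
      set f := e * m * e⁻¹ with hfdef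
      -- `[t, f] ∈ l`
      have h1 : e⁻¹ * ct t f * e ∈ b := h.Mm_ct' he htE htl hm
      have h2 : ct t f ∈ l := h.mem_l_of he h1
      have h3 : ct t n ∈ Np := ct_mem (h.CN (h.SC ht)) hn
      have h4 : s * ct t f * s⁻¹ * (ct t f)⁻¹ ∈ Np := h.Kl s hs _ h2
      have hse : s * e ∈ E := mul_mem hsE he
      have h5 : (s * e)⁻¹ * ct t (s * f * s⁻¹) * (s * e) ∈ b := by
        have e2 : s * f * s⁻¹ = (s * e) * m * (s * e)⁻¹ := by rw [hfdef]; group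
        rw [e2]
        exact h.Mm_ct' hse htE htl hm
      have h6 : (s * e)⁻¹ * (s * ct t f * s⁻¹) * (s * e) ∈ b := by
        have e2 : (s * e)⁻¹ * (s * ct t f * s⁻¹) * (s * e) = e⁻¹ * ct t f * e := by group
        rwa [e2]
      have h7 : ct t (s * f * s⁻¹) * (s * ct t f * s⁻¹)⁻¹ ∈ Np := by
        have e2 : ct t (s * f * s⁻¹) * (s * ct t f * s⁻¹)⁻¹ = ct t n * (s * ct t f * s⁻¹ * (ct t f)⁻¹)⁻¹ := by
          rw [hA]
          have c1 := h.Wc _ (h.lW h2) _ (h.NW h3)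
          calc ct t f * ct t n * (s * ct t f * s⁻¹)⁻¹ = ct t n * ct t f * (s * ct t f * s⁻¹)⁻¹ := by rw [c1]
            _ = ct t n * (s * ct t f * s⁻¹ * (ct t f)⁻¹)⁻¹ := by group
        rw [e2]
        exact mul_mem h3 (inv_mem h4)
      set w := ct t (s * f * s⁻¹) * (s * ct t f * s⁻¹)⁻¹ with hw
      have h8 : (s * e)⁻¹ * w * (s * e) ∈ b := by
        have e2 : (s * e)⁻¹ * w * (s * e) = ((s * e)⁻¹ * ct t (s * f * s⁻¹) * (s * e)) *
          ((s * e)⁻¹ * (s * ct t f * s⁻¹) * (s * e))⁻¹ := by rw [hw]; group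
        rw [e2]
        exact mul_mem h5 (inv_mem h6)
      have h9 : w ∈ b := h.lN w (h.mem_l_of hse h8) h7
      have h10 : w = 1 := by
        by_contra hne
        have h11 := h.ti (s * e) hse _ h8 (fun h12 => hne (by
          calc w = (s * e) * ((s * e)⁻¹ * w * (s * e)) * (s * e)⁻¹ := by group
            _ = 1 := by rw [h12]; group)) (by
          have e2 : (s * e) * ((s * e)⁻¹ * w * (s * e)) * (s * e)⁻¹ = w := by group
          rwa [e2])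
        apply heb
        have h13 := mul_mem (inv_mem (cn hsb)) h11
        have e3 : s⁻¹ * (s * e) = e := by group
        rwa [e3] at h13
      exact mul_inv_eq_one.1 h10
  · have e1 : s * (x * y) * s⁻¹ = (s * x * s⁻¹) * (s * y * s⁻¹) := by group
    rw [e1, ct_mul h.Wc htW (nm hsW (h.FW hx)) (nm hsW (h.FW hy)), ihx, ihy,
      ct_mul h.Wc htW (h.FW hx) (h.FW hy)]
    group

/-- **(3)**: `[S, s] ≤ C(F)` for `s ∈ K ∩ N(l)`. -/
theorem inD_K {s : G} (hs : s ∈ K) (hsl : s ∈ normalizer (l : Set G)) : InD E l Np S X0 s := by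
  have hsE : s ∈ E := h.KE ⟨hs, hsl⟩
  refine ⟨hsE, fun t ht => mem_centralizer_iff.2 fun f hf => ?_⟩
  -- `t g t⁻¹ = t' g t'⁻¹` on `F`, `t' = s t s⁻¹`
  have key : ∀ g ∈ FF E l Np X0, t * g * t⁻¹ = (s * t * s⁻¹) * g * (s * t * s⁻¹)⁻¹ := by
    intro g hg
    have hg' : s⁻¹ * g * s ∈ FF E l Np X0 := nm' (h.EF hsE) hg
    have h1 := h.claimA hs hsl ht hg'
    have e1 : s * (s⁻¹ * g * s) * s⁻¹ = g := by group
    rw [e1] at h1
    have e2 : s * ct t (s⁻¹ * g * s) * s⁻¹ = (s * t * s⁻¹) * g * (s * t * s⁻¹)⁻¹ * g⁻¹ := by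
      change s * (t * (s⁻¹ * g * s) * t⁻¹ * (s⁻¹ * g * s)⁻¹) * s⁻¹ = _
      group
    rw [e2] at h1
    exact mul_right_cancel h1
  have h2 := key (t⁻¹ * f * t) (nm' (h.EF (h.SE ht)) hf)
  have e1 : t * (t⁻¹ * f * t) * t⁻¹ = f := by group
  rw [e1] at h2
  calc f * (s * t * s⁻¹ * t⁻¹) = (s * t * s⁻¹ * (t⁻¹ * f * t) * (s * t * s⁻¹)⁻¹) * (s * t * s⁻¹ * t⁻¹) := by
        rw [← h2]
    _ = s * t * s⁻¹ * t⁻¹ * f := by group

theorem inD_mul {e g : G} (he : InD E l Np S X0 e) (hg : InD E l Np S X0 g) : InD E l Np S X0 (e * g) := by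
  refine ⟨mul_mem he.1 hg.1, fun t ht => ?_⟩
  have e1 : e * g * t * (e * g)⁻¹ * t⁻¹ = (e * (g * t * g⁻¹ * t⁻¹) * e⁻¹) * (e * t * e⁻¹ * t⁻¹) := by group
  rw [e1]
  exact mul_mem (nc (h.EF he.1) (hg.2 t ht)) (he.2 t ht)

theorem inD_inv {e : G} (he : InD E l Np S X0 e) : InD E l Np S X0 e⁻¹ := by
  refine ⟨inv_mem he.1, fun t ht => ?_⟩
  have h1 := nc' (h.EF he.1) (inv_mem (he.2 t ht))
  have e1 : e⁻¹ * (e * t * e⁻¹ * t⁻¹)⁻¹ * e = e⁻¹ * t * e⁻¹⁻¹ * t⁻¹ := by group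
  rwa [e1] at h1

theorem inD_conj {e g : G} (he : InD E l Np S X0 e) (hgE : g ∈ E) (hgS : g ∈ normalizer (S : Set G)) :
    InD E l Np S X0 (g * e * g⁻¹) := by
  refine ⟨mul_mem (mul_mem hgE he.1) (inv_mem hgE), fun t ht => ?_⟩
  have h1 := nc (h.EF hgE) (he.2 _ (nm' hgS ht))
  have e1 : g * (e * (g⁻¹ * t * g) * e⁻¹ * (g⁻¹ * t * g)⁻¹) * g⁻¹ =
    g * e * g⁻¹ * t * (g * e * g⁻¹)⁻¹ * t⁻¹ := by group
  rwa [e1] at h1

/-! ### points of `l`, flags -/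

/-- two points of `l` with a common vector `≠ 1` coincide -/
theorem ti' {e e' x : G} (he : e ∈ E) (he' : e' ∈ E) (hx : x ≠ 1) (h1 : e⁻¹ * x * e ∈ b)
    (h2 : e'⁻¹ * x * e' ∈ b) : e'⁻¹ * e ∈ normalizer (b : Set G) := by
  refine h.ti (e'⁻¹ * e) (mul_mem (inv_mem he') he) _ h1 (fun h3 => hx ?_) ?_
  · calc x = e * (e⁻¹ * x * e) * e⁻¹ := by group
      _ = 1 := by rw [h3]; group
  · have e1 : e'⁻¹ * e * (e⁻¹ * x * e) * (e'⁻¹ * e)⁻¹ = e'⁻¹ * x * e' := by group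
    rwa [e1]

theorem pt_eq {e e' x : G} (h1 : e'⁻¹ * e ∈ normalizer (b : Set G)) (h2 : e⁻¹ * x * e ∈ b) :
    e'⁻¹ * x * e' ∈ b := by
  have h3 := nm h1 h2
  have e1 : e'⁻¹ * e * (e⁻¹ * x * e) * (e'⁻¹ * e)⁻¹ = e'⁻¹ * x * e' := by group
  rwa [e1] at h3

theorem cov' {v : G} (hv : v ∈ l) (hv1 : v ≠ 1) : ∃ e ∈ E, e⁻¹ * v * e ∈ b := by
  obtain ⟨e, he, x, hx, rfl⟩ := h.cov v hv hv1
  refine ⟨e, he, ?_⟩
  have e1 : e⁻¹ * (e * x * e⁻¹) * e = x := by group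
  rwa [e1]

theorem exists_v0 : ∃ v ∈ l, v ∉ b := by
  by_contra hc
  push Not at hc
  have h1 := Subgroup.card_le_of_le (show l ≤ b from hc)
  rw [h.cb, h.cl] at h1
  have := h.q2
  nlinarith

theorem exists_b : ∃ x ∈ b, x ≠ 1 := by
  by_contra hc
  push Not at hc
  have h1 : b = ⊥ := (eq_bot_iff_forall b).2 hc
  have h2 := h.cb
  rw [h1, card_bot] at h2
  have := h.q2
  omega

/-- full root groups in `D` -/
theorem rootD {e v u : G} (he : e ∈ E) (hv : v ∈ l) (hve : e⁻¹ * v * e ∉ b) (hu : e⁻¹ * u * e ∈ b) :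
    ∃ d, InD E l Np S X0 d ∧ d * v * d⁻¹ * v⁻¹ = u ∧ ∀ z, e⁻¹ * z * e ∈ b → d * z * d⁻¹ = z := by
  obtain ⟨g, hg, hgS, hge⟩ := h.pts e he
  have hge' : e⁻¹ * g ∈ normalizer (b : Set G) := by
    have := inv_mem hge
    rwa [mul_inv_rev, inv_inv] at this
  have hv1 : g⁻¹ * v * g ∉ b := fun h1 => hve (h.pt_eq hge' h1)
  have hu1 : g⁻¹ * u * g ∈ b := h.pt_eq hge hu
  obtain ⟨s, hs, hsl, e1⟩ := h.root h.exists_mv _ (nm' (h.El hg) hv) hv1 _ hu1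
  refine ⟨g * s * g⁻¹, h.inD_conj (h.inD_K hs hsl) hg hgS, ?_, fun z hz => ?_⟩
  · calc g * s * g⁻¹ * v * (g * s * g⁻¹)⁻¹ * v⁻¹
        = g * (s * (g⁻¹ * v * g) * s⁻¹ * (g⁻¹ * v * g)⁻¹) * g⁻¹ := by group
      _ = u := by rw [e1]; group
  · have h2 := cm (h.Cb (h.KC hs)) (h.pt_eq hge hz)
    calc g * s * g⁻¹ * z * (g * s * g⁻¹)⁻¹ = g * (s * (g⁻¹ * z * g) * s⁻¹) * g⁻¹ := by group
      _ = z := by rw [h2]; group

/-- `D` is transitive on `l - 1` -/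
theorem trans_v {v w : G} (hv : v ∈ l) (hv1 : v ≠ 1) (hw : w ∈ l) (hw1 : w ≠ 1) :
    ∃ d, InD E l Np S X0 d ∧ d * v * d⁻¹ = w := by
  have step : ∀ v ∈ l, v ≠ 1 → ∀ w ∈ l, w ≠ 1 → (∀ e ∈ E, e⁻¹ * v * e ∈ b → e⁻¹ * w * e ∉ b) →
      ∃ d, InD E l Np S X0 d ∧ d * v * d⁻¹ = w := by
    intro v hv hv1 w hw hw1 hne
    have hx1 : w * v⁻¹ ≠ 1 := by
      intro h1
      obtain ⟨e, he, h2⟩ := h.cov' hv hv1
      exact hne e he h2 (by rw [mul_inv_eq_one.1 h1]; exact h2)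
    obtain ⟨e, he, h2⟩ := h.cov' (mul_mem hw (inv_mem hv)) hx1
    have hve : e⁻¹ * v * e ∉ b := by
      intro h3
      apply hne e he h3
      have e1 : e⁻¹ * w * e = (e⁻¹ * (w * v⁻¹) * e) * (e⁻¹ * v * e) := by group
      rw [e1]
      exact mul_mem h2 h3
    obtain ⟨d, hd, h3, -⟩ := h.rootD he hv hve h2
    exact ⟨d, hd, mul_right_cancel h3⟩
  by_cases hc : ∀ e ∈ E, e⁻¹ * v * e ∈ b → e⁻¹ * w * e ∉ b
  · exact step v hv hv1 w hw hw1 hc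
  · push Not at hc
    obtain ⟨e, he, hve, hwe⟩ := hc
    obtain ⟨u0, hu0, hu0b⟩ := h.exists_v0
    have hu : e * u0 * e⁻¹ ∈ l := nm (h.El he) hu0
    have hue : e⁻¹ * (e * u0 * e⁻¹) * e ∉ b := by
      have e1 : e⁻¹ * (e * u0 * e⁻¹) * e = u0 := by group
      rwa [e1]
    set u := e * u0 * e⁻¹ with hudef
    have hu1 : u ≠ 1 := by
      rintro h1
      rw [h1] at hue
      apply hue
      have e1 : e⁻¹ * 1 * e = 1 := by group
      rw [e1]; exact one_mem _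
    obtain ⟨d, hd, h1⟩ := step v hv hv1 u hu hu1 (fun e' he' h2 h3 =>
      hue (h.pt_eq (h.ti' he' he hv1 h2 hve) h3))
    obtain ⟨d', hd', h2⟩ := step u hu hu1 w hw hw1 (fun e' he' h2 h3 =>
      hue (h.pt_eq (h.ti' he' he hw1 h3 hwe) h2))
    refine ⟨d' * d, h.inD_mul hd' hd, ?_⟩
    calc d' * d * v * (d' * d)⁻¹ = d' * (d * v * d⁻¹) * d'⁻¹ := by group
      _ = w := by rw [h1, h2]

/-- `l = y₁ y₂` for two points `y₁ ≠ y₂` -/
theorem decomp {e₁ e₂ : G} (h1 : e₁ ∈ E) (h2 : e₂ ∈ E) (hne : e₂⁻¹ * e₁ ∉ normalizer (b : Set G)) {a : G}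
    (ha : a ∈ l) : ∃ y, e₁⁻¹ * y * e₁ ∈ b ∧ e₂⁻¹ * (y * a) * e₂ ∈ b := by
  let f : b × b → l := fun p => ⟨e₁ * p.1 * e₁⁻¹ * (e₂ * p.2 * e₂⁻¹),
    mul_mem (nm (h.El h1) (h.bl p.1.2)) (nm (h.El h2) (h.bl p.2.2))⟩
  have hinj : Function.Injective f := by
    rintro ⟨x, y⟩ ⟨x', y'⟩ hxy
    have h3 : e₁ * (x : G) * e₁⁻¹ * (e₂ * y * e₂⁻¹) = e₁ * (x' : G) * e₁⁻¹ * (e₂ * y' * e₂⁻¹) :=
      congrArg Subtype.val hxy
    -- `z = x'⁻¹ x` in both points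
    have h4 : e₁ * ((x' : G)⁻¹ * x) * e₁⁻¹ = e₂ * ((y' : G) * (y : G)⁻¹) * e₂⁻¹ := by
      calc e₁ * ((x' : G)⁻¹ * x) * e₁⁻¹
          = (e₁ * (x' : G) * e₁⁻¹)⁻¹ * (e₁ * (x : G) * e₁⁻¹ * (e₂ * y * e₂⁻¹)) * (e₂ * y * e₂⁻¹)⁻¹ := by group
        _ = (e₁ * (x' : G) * e₁⁻¹)⁻¹ * (e₁ * (x' : G) * e₁⁻¹ * (e₂ * y' * e₂⁻¹)) * (e₂ * y * e₂⁻¹)⁻¹ := by rw [h3]
        _ = e₂ * ((y' : G) * (y : G)⁻¹) * e₂⁻¹ := by group
    have h5 : e₁ * ((x' : G)⁻¹ * x) * e₁⁻¹ = 1 := by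
      by_contra hne1
      apply hne
      refine h.ti' h1 h2 hne1 ?_ ?_
      · have e1 : e₁⁻¹ * (e₁ * ((x' : G)⁻¹ * x) * e₁⁻¹) * e₁ = (x' : G)⁻¹ * x := by group
        rw [e1]
        exact mul_mem (inv_mem x'.2) x.2
      · rw [h4]
        have e1 : e₂⁻¹ * (e₂ * ((y' : G) * (y : G)⁻¹) * e₂⁻¹) * e₂ = (y' : G) * (y : G)⁻¹ := by group
        rw [e1]
        exact mul_mem y'.2 (inv_mem y.2)
    have h6 : (x' : G)⁻¹ * x = 1 := by
      calc (x' : G)⁻¹ * x = e₁⁻¹ * (e₁ * ((x' : G)⁻¹ * x) * e₁⁻¹) * e₁ := by group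
        _ = 1 := by rw [h5]; group
    have h7 : (y' : G) * (y : G)⁻¹ = 1 := by
      calc (y' : G) * (y : G)⁻¹ = e₂⁻¹ * (e₂ * ((y' : G) * (y : G)⁻¹) * e₂⁻¹) * e₂ := by group
        _ = 1 := by rw [← h4, h5]; group
    exact Prod.ext (Subtype.ext (inv_mul_eq_one.1 h6).symm) (Subtype.ext (mul_inv_eq_one.1 h7).symm)
  have hcard : Nat.card l ≤ Nat.card (b × b) := by
    rw [Nat.card_prod, h.cb, h.cl, pow_two]
  have hbij := hinj.bijective_of_nat_card_le hcard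
  obtain ⟨⟨x, y⟩, hxy⟩ := hbij.2 ⟨a, ha⟩
  have h3 : e₁ * (x : G) * e₁⁻¹ * (e₂ * y * e₂⁻¹) = a := congrArg Subtype.val hxy
  refine ⟨(e₁ * (x : G) * e₁⁻¹)⁻¹, ?_, ?_⟩
  · have e1 : e₁⁻¹ * (e₁ * (x : G) * e₁⁻¹)⁻¹ * e₁ = (x : G)⁻¹ := by group
    rw [e1]; exact inv_mem x.2
  · rw [← h3]
    have e1 : e₂⁻¹ * ((e₁ * (x : G) * e₁⁻¹)⁻¹ * (e₁ * x * e₁⁻¹ * (e₂ * y * e₂⁻¹))) * e₂ = y := by group
    rw [e1]; exact y.2

/-- the stabiliser of `v` in `D` is transitive on the points without `v` -/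
theorem trans_p {v e e' : G} (hv : v ∈ l) (he : e ∈ E) (he' : e' ∈ E) (h1 : e⁻¹ * v * e ∉ b)
    (h2 : e'⁻¹ * v * e' ∉ b) : ∃ d, InD E l Np S X0 d ∧ d * v * d⁻¹ = v ∧
      e'⁻¹ * (d * e) ∈ normalizer (b : Set G) := by
  have hv1 : v ≠ 1 := by
    rintro rfl
    apply h1
    have e1 : e⁻¹ * 1 * e = 1 := by group
    rw [e1]; exact one_mem _
  obtain ⟨g, hg, hgv⟩ := h.cov' hv hv1
  obtain ⟨a, ha, ha1⟩ := h.exists_b
  have hal : e * a * e⁻¹ ∈ l := nm (h.El he) (h.bl ha)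
  have hae : e⁻¹ * (e * a * e⁻¹) * e ∈ b := by
    have e1 : e⁻¹ * (e * a * e⁻¹) * e = a := by group
    rwa [e1]
  have ha1' : e * a * e⁻¹ ≠ 1 := by
    intro h3
    apply ha1
    calc a = e⁻¹ * (e * a * e⁻¹) * e := by group
      _ = 1 := by rw [h3]; group
  set α := e * a * e⁻¹ with hα
  have hgα : g⁻¹ * α * g ∉ b := fun h3 => h1 (h.pt_eq (h.ti' hg he ha1' h3 hae) hgv)
  have hne : e'⁻¹ * g ∉ normalizer (b : Set G) := fun h3 => h2 (h.pt_eq h3 hgv)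
  obtain ⟨u, hu, hu2⟩ := h.decomp hg he' hne hal
  obtain ⟨d, hd, hd1, hd2⟩ := h.rootD hg hal hgα hu
  refine ⟨d, hd, hd2 v hgv, ?_⟩
  have h3 : d * α * d⁻¹ = u * α := by rw [← hd1]; group
  have h4 : u * α ≠ 1 := by
    rw [← h3]
    intro h5
    apply ha1'
    calc α = d⁻¹ * (d * α * d⁻¹) * d := by group
      _ = 1 := by rw [h5]; group
  refine h.ti' (mul_mem hd.1 he) he' h4 ?_ hu2
  rw [← h3]
  have e1 : (d * e)⁻¹ * (d * α * d⁻¹) * (d * e) = e⁻¹ * α * e := by group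
  rwa [e1]

/-- `D` is transitive on the flags -/
theorem trans_f {v w e e' : G} (hv : v ∈ l) (hw : w ∈ l) (he : e ∈ E) (he' : e' ∈ E) (h1 : e⁻¹ * v * e ∉ b)
    (h2 : e'⁻¹ * w * e' ∉ b) : ∃ d, InD E l Np S X0 d ∧ d * v * d⁻¹ = w ∧
      e'⁻¹ * (d * e) ∈ normalizer (b : Set G) := by
  have one : ∀ {v e : G}, e⁻¹ * v * e ∉ b → v ≠ 1 := by
    rintro v e h1 rfl
    apply h1
    have e1 : e⁻¹ * 1 * e = 1 := by group
    rw [e1]; exact one_mem _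
  obtain ⟨d, hd, h3⟩ := h.trans_v hv (one h1) hw (one h2)
  have h4 : (d * e)⁻¹ * w * (d * e) ∉ b := by
    rw [← h3]
    have e1 : (d * e)⁻¹ * (d * v * d⁻¹) * (d * e) = e⁻¹ * v * e := by group
    rwa [e1]
  obtain ⟨d', hd', h5, h6⟩ := h.trans_p hw (mul_mem hd.1 he) he' h4 h2
  refine ⟨d' * d, h.inD_mul hd' hd, ?_, ?_⟩
  · calc d' * d * v * (d' * d)⁻¹ = d' * (d * v * d⁻¹) * d'⁻¹ := by group
      _ = w := by rw [h3, h5]
  · rwa [mul_assoc]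

/-! ### the indices -/

/-- `C_S(n₀) = C_S(F)` -/
theorem cent_F {v₀ n₀ t : G} (hv : v₀ ∈ l) (hvb : v₀ ∉ b) (hn : n₀ ∈ Np) (hX : v₀ * n₀ ∈ X0) (ht : t ∈ S)
    (hc : t * n₀ = n₀ * t) : t ∈ centralizer (FF E l Np X0 : Set G) := by
  have hm0 : Mm l Np X0 n₀ := ⟨hn, v₀, hv, hX⟩
  have hn0F : n₀ ∈ FF E l Np X0 := by
    have := eF (one_mem E) hm0
    have e1 : 1 * n₀ * (1 : G)⁻¹ = n₀ := by group
    rwa [e1] at this
  refine mem_centralizer_iff.2 fun f hf => ?_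
  refine (h.F_ind (p := fun f => f * t = t * f) (fun x hx => (cm' (h.Sl ht) hx).symm) (fun e he m hm => ?_)
    (fun x _ y _ ihx ihy => by rw [mul_assoc, ihy, ← mul_assoc, ihx, mul_assoc]) hf)
  obtain ⟨h1, v, hvl, h2⟩ := hm
  by_cases hvb' : v ∈ b
  · -- `m ∈ b`
    have h3 : m ∈ b := by
      refine h.XN m ?_ h1
      have := mul_mem (inv_mem (h.bX hvb')) h2
      rwa [inv_mul_cancel_left] at this
    exact (cm' (h.Sl ht) (nm (h.El he) (h.bl h3))).symm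
  · have e1 : (1 : G)⁻¹ * v₀ * 1 = v₀ := by group
    have e2 : e⁻¹ * (e * v * e⁻¹) * e = v := by group
    obtain ⟨d, hd, h3, h4⟩ := h.trans_f (e := 1) (e' := e) hv (nm (h.El he) hvl) (one_mem E) he
      (by rwa [e1]) (by rwa [e2])
    rw [mul_one] at h4
    -- `d n₀ d⁻¹ ∈ (e m e⁻¹) y`
    have hgE : e⁻¹ * d ∈ E := mul_mem (inv_mem he) hd.1
    have h5 : (e⁻¹ * d) * (v₀ * n₀) * (e⁻¹ * d)⁻¹ ∈ X0 := nm (h.EX ⟨hgE, h4⟩) hX
    have h6 : (e⁻¹ * d) * (v₀ * n₀) * (e⁻¹ * d)⁻¹ = v * ((e⁻¹ * d) * n₀ * (e⁻¹ * d)⁻¹) := by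
      calc (e⁻¹ * d) * (v₀ * n₀) * (e⁻¹ * d)⁻¹ =
          e⁻¹ * (d * v₀ * d⁻¹) * e * ((e⁻¹ * d) * n₀ * (e⁻¹ * d)⁻¹) := by group
        _ = v * ((e⁻¹ * d) * n₀ * (e⁻¹ * d)⁻¹) := by rw [h3]; group
    rw [h6] at h5
    have h7 := h.Mm_cmp hvl h1 (nm (h.EN ⟨hgE, h4⟩) hn) h2 h5
    -- `t` commutes with `d n₀ d⁻¹`
    have h8 : t * (d * n₀ * d⁻¹) = (d * n₀ * d⁻¹) * t := by
      have h9 := (h.inD_inv hd).2 t ht
      rw [inv_inv] at h9
      have h10 := mem_centralizer_iff.1 h9 n₀ hn0F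
      -- `n₀ (d⁻¹ t d t⁻¹) = (d⁻¹ t d t⁻¹) n₀`
      have h11 : n₀ * (d⁻¹ * t * d) = (d⁻¹ * t * d) * n₀ := by
        calc n₀ * (d⁻¹ * t * d) = n₀ * (d⁻¹ * t * d * t⁻¹) * t := by group
          _ = d⁻¹ * t * d * t⁻¹ * n₀ * t := by rw [h10]
          _ = d⁻¹ * t * d * t⁻¹ * (n₀ * t) := by group
          _ = d⁻¹ * t * d * t⁻¹ * (t * n₀) := by rw [hc]
          _ = (d⁻¹ * t * d) * n₀ := by group
      calc t * (d * n₀ * d⁻¹) = d * ((d⁻¹ * t * d) * n₀) * d⁻¹ := by group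
        _ = d * (n₀ * (d⁻¹ * t * d)) * d⁻¹ := by rw [h11]
        _ = (d * n₀ * d⁻¹) * t := by group
    have h9 : e * m * e⁻¹ = (e * ((e⁻¹ * d) * n₀ * (e⁻¹ * d)⁻¹ * m⁻¹) * e⁻¹)⁻¹ * (d * n₀ * d⁻¹) := by group
    have h10 : (e * ((e⁻¹ * d) * n₀ * (e⁻¹ * d)⁻¹ * m⁻¹) * e⁻¹) ∈ l := nm (h.El he) (h.bl h7)
    have h11 := cm' (h.Sl ht) (inv_mem h10)
    rw [h9]
    calc (e * ((e⁻¹ * d) * n₀ * (e⁻¹ * d)⁻¹ * m⁻¹) * e⁻¹)⁻¹ * (d * n₀ * d⁻¹) * t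
        = (e * ((e⁻¹ * d) * n₀ * (e⁻¹ * d)⁻¹ * m⁻¹) * e⁻¹)⁻¹ * ((d * n₀ * d⁻¹) * t) := by group
      _ = (e * ((e⁻¹ * d) * n₀ * (e⁻¹ * d)⁻¹ * m⁻¹) * e⁻¹)⁻¹ * (t * (d * n₀ * d⁻¹)) := by rw [h8]
      _ = (e * ((e⁻¹ * d) * n₀ * (e⁻¹ * d)⁻¹ * m⁻¹) * e⁻¹)⁻¹ * t * (d * n₀ * d⁻¹) := by group
      _ = t * (e * ((e⁻¹ * d) * n₀ * (e⁻¹ * d)⁻¹ * m⁻¹) * e⁻¹)⁻¹ * (d * n₀ * d⁻¹) := by rw [← h11]
      _ = _ := by group

theorem idx_S {A : Subgroup G} (hA : A ≤ S) : (centralizer (FF E l Np X0 : Set G)).relIndex A ≤ q := by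
  obtain ⟨v₀, hv, hvb⟩ := h.exists_v0
  obtain ⟨n₀, hn, hX⟩ := h.Xex v₀ hv
  have h1 := relIndex_le_card (H := centralizer (FF E l Np X0 : Set G)) (S := A) (X := b) (fun t => ct t n₀)
    (fun t ht => h.Mm_ct (h.SE (hA ht)) (h.Sl (hA ht)) ⟨hn, v₀, hv, hX⟩) (fun t ht t' ht' e => by
      refine h.cent_F hv hvb hn hX (mul_mem (inv_mem (hA ht)) (hA ht')) ?_
      have e1 : t * n₀ * t⁻¹ = t' * n₀ * t'⁻¹ := mul_right_cancel e
      calc t⁻¹ * t' * n₀ = t⁻¹ * (t' * n₀ * t'⁻¹) * t' := by group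
        _ = t⁻¹ * (t * n₀ * t⁻¹) * t' := by rw [e1]
        _ = n₀ * (t⁻¹ * t') := by group)
  rwa [h.cb] at h1

/-- `[F, t] = l` for `t ∈ S - C(F)` -/
theorem idx_t {t : G} (ht : t ∈ S) (hc : t ∉ centralizer (FF E l Np X0 : Set G)) :
    q ^ 2 ≤ (centralizer ({t} : Set G)).relIndex (FF E l Np X0) := by
  rw [rel_eq h.Wc h.FW (h.SW ht), ← h.cl]
  refine Subgroup.card_le_of_le fun w hw => ?_
  have h0 : ∃ f ∈ FF E l Np X0, ct t f ≠ 1 := by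
    by_contra hc1
    push Not at hc1
    exact hc (mem_centralizer_iff.2 fun f hf => (ct_eq_one.1 (hc1 f hf)).symm)
  obtain ⟨f, hf, hne⟩ := h0
  by_cases hw1 : w = 1
  · rw [hw1]; exact one_mem _
  obtain ⟨d, hd, h1⟩ := h.trans_v (h.F_ct (h.SE ht) (h.SW ht) (h.Sl ht) hf) hne hw hw1
  have hf' := h.F_conj hd.1 hf
  refine ⟨⟨d * f * d⁻¹, hf'⟩, ?_⟩
  change ct t (d * f * d⁻¹) = w
  have h2 := mem_centralizer_iff.1 (hd.2 t ht) _ (nm (h.EF (h.SE ht)) hf')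
  rw [← h1]
  symm
  calc d * (t * f * t⁻¹ * f⁻¹) * d⁻¹
      = (d * t * d⁻¹ * t⁻¹) * (t * (d * f * d⁻¹) * t⁻¹) * (d * t * d⁻¹ * t⁻¹)⁻¹ * (d * f * d⁻¹)⁻¹ := by group
    _ = (t * (d * f * d⁻¹) * t⁻¹) * (d * t * d⁻¹ * t⁻¹) * (d * t * d⁻¹ * t⁻¹)⁻¹ * (d * f * d⁻¹)⁻¹ := by rw [h2]
    _ = t * (d * f * d⁻¹) * t⁻¹ * (d * f * d⁻¹)⁻¹ := by group

theorem card_inf_relIndex (A C : Subgroup G) : C.relIndex A * Nat.card ↥(A ⊓ C) = Nat.card A := by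
  have e := relIndex_inf_mul_relIndex (⊥ : Subgroup G) C A
  rw [relIndex_bot_left, bot_inf_eq, relIndex_bot_left, mul_comm, inf_comm] at e
  exact e

/-- an element of `E ∩ N(S)` which moves `b` -/
theorem exists_g : ∃ g ∈ E, g ∈ normalizer (S : Set G) ∧ g ∉ normalizer (b : Set G) := by
  obtain ⟨v₀, hv, hvb⟩ := h.exists_v0
  obtain ⟨e, he, hve⟩ := h.cov' hv (fun h1 => hvb (by rw [h1]; exact one_mem _))
  obtain ⟨g, hg, hgS, hge⟩ := h.pts e he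
  refine ⟨g, hg, hgS, fun h1 => hvb ?_⟩
  have h2 : e ∈ normalizer (b : Set G) := by
    have := mul_mem h1 hge
    rwa [mul_inv_cancel_left] at this
  have h3 := nm h2 hve
  have e1 : e * (e⁻¹ * v₀ * e) * e⁻¹ = v₀ := by group
  rwa [e1] at h3

/-- `|F : C_F(x)| > q` for `x ∈ B - C(l)` -/
theorem idx_x {x : G} (hx : x ∈ B) (hxl : x ∉ centralizer (l : Set G))
    (hS : ¬ S ≤ centralizer (FF E l Np X0 : Set G)) :
    q < (centralizer ({x} : Set G)).relIndex (FF E l Np X0) := by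
  by_contra hle
  push Not at hle
  rw [rel_eq h.Wc h.FW (h.BW hx)] at hle
  -- `[x, l] ≤ b` has order `≥ q`
  have h1 : q ≤ Nat.card (phi h.Wc h.lW (h.BW hx)).range := by
    rw [← rel_eq h.Wc h.lW (h.BW hx)]
    have h2 := h.card_inf_relIndex l (centralizer ({x} : Set G))
    have h3 : l ⊓ centralizer ({x} : Set G) ≤ b := by
      rintro v ⟨hv, hvx⟩
      by_contra hvb
      exact hxl (h.free x hx v hv hvb (mem_centralizer_singleton_iff.1 hvx).symm)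
    have h4 := Subgroup.card_le_of_le h3
    rw [h.cb] at h4
    rw [h.cl] at h2
    by_contra h5
    push Not at h5
    have h6 : (centralizer ({x} : Set G)).relIndex l * Nat.card ↥(l ⊓ centralizer ({x} : Set G)) ≤
      (centralizer ({x} : Set G)).relIndex l * q := Nat.mul_le_mul_left _ h4
    have := h.q2
    nlinarith
  have h2 : (phi h.Wc h.lW (h.BW hx)).range ≤ (phi h.Wc h.FW (h.BW hx)).range := by
    rintro _ ⟨v, rfl⟩
    exact ⟨⟨v, lF v.2⟩, rfl⟩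
  have h3 := Subgroup.eq_of_le_of_card_ge h2 (hle.trans h1)
  -- `[x, F] ≤ b`
  have h4 : ∀ f ∈ FF E l Np X0, ct x f ∈ b := by
    intro f hf
    have h5 : ct x f ∈ (phi h.Wc h.FW (h.BW hx)).range := ⟨⟨f, hf⟩, rfl⟩
    rw [← h3] at h5
    obtain ⟨v, hv⟩ := h5
    rw [← hv]
    exact h.com x hx v v.2
  -- `S` centralises `n_y(v)`, `y ≠ b`
  have h5 : ∀ e ∈ E, e ∉ normalizer (b : Set G) → ∀ m, Mm l Np X0 m → ∀ t ∈ S,
      ct t (e * m * e⁻¹) = 1 := by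
    intro e he heb m hm t ht
    by_contra hne
    have hfF := eF he hm
    set f := e * m * e⁻¹ with hf
    have h6 : ct t (x * f * x⁻¹) = ct t f := by
      have e1 : x * f * x⁻¹ = ct x f * f := by change _ = x * f * x⁻¹ * f⁻¹ * f; group
      rw [e1, ct_mul h.Wc (h.SW ht) (h.bW (h4 f hfF)) (h.FW hfF), ct_eq_one.2 (cm' (h.Sl ht) (h.bl (h4 f hfF))),
        one_mul]
    have h7 : e⁻¹ * ct t f * e ∈ b := h.Mm_ct' he (h.SE ht) (h.Sl ht) hm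
    have h8 : (x * e)⁻¹ * ct t f * (x * e) ∈ b := by
      rw [← h6]
      have e1 : x * f * x⁻¹ = (x * e) * m * (x * e)⁻¹ := by rw [hf]; group
      rw [e1]
      exact h.Mm_ct' (mul_mem (h.BE hx) he) (h.SE ht) (h.Sl ht) hm
    have h9 := h.ti' (mul_mem (h.BE hx) he) he hne h8 h7
    -- `x` normalises the point of `e`
    obtain ⟨a, ha, ha1⟩ := h.exists_b
    have hal : e * a * e⁻¹ ∈ l := nm (h.El he) (h.bl ha)
    have hab : e * a * e⁻¹ ∉ b := fun h10 => heb (h.ti e he a ha ha1 h10)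
    have hxa : ct x (e * a * e⁻¹) ≠ 1 := fun h10 =>
      hxl (h.free x hx _ hal hab (ct_eq_one.1 h10))
    apply heb
    have h10 : e⁻¹ * ct x (e * a * e⁻¹) * e ∈ b := by
      have h11 := mul_mem (nm h9 ha) (inv_mem ha)
      have e1 : e⁻¹ * (x * e) * a * (e⁻¹ * (x * e))⁻¹ * a⁻¹ = e⁻¹ * ct x (e * a * e⁻¹) * e := by
        change _ = e⁻¹ * (x * (e * a * e⁻¹) * x⁻¹ * (e * a * e⁻¹)⁻¹) * e
        group
      rwa [e1] at h11
    have h11 : (1 : G)⁻¹ * ct x (e * a * e⁻¹) * 1 ∈ b := by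
      rw [inv_one, one_mul, mul_one]
      exact h.com x hx _ hal
    have h12 := h.ti' he (one_mem E) hxa h10 h11
    rwa [inv_one, one_mul] at h12
  apply hS
  intro t ht
  refine mem_centralizer_iff.2 fun f hf => ?_
  refine (h.F_ind (p := fun f => f * t = t * f) (fun x hx => (cm' (h.Sl ht) hx).symm) (fun e he m hm => ?_)
    (fun x _ y _ ihx ihy => by rw [mul_assoc, ihy, ← mul_assoc, ihx, mul_assoc]) hf)
  by_cases heb : e ∈ normalizer (b : Set G)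
  · obtain ⟨g, hg, hgS, hgb⟩ := h.exists_g
    have h6 := h5 (g * e) (mul_mem hg he) (fun h7 => hgb (by
      have := mul_mem h7 (inv_mem heb)
      rwa [mul_inv_cancel_right] at this)) m hm _ (nm hgS ht)
    have h7 := ct_eq_one.1 h6
    calc e * m * e⁻¹ * t = g⁻¹ * (g * e * m * (g * e)⁻¹ * (g * t * g⁻¹)) * g := by group
      _ = g⁻¹ * (g * t * g⁻¹ * (g * e * m * (g * e)⁻¹)) * g := by rw [h7]
      _ = t * (e * m * e⁻¹) := by group
  · exact (ct_eq_one.1 (h5 e he heb m hm t ht)).symm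

/-- **(4)** -/
theorem not_cent : ¬ S ≤ centralizer (FF E l Np X0 : Set G) := by
  intro hS
  apply h.done
  intro s hs
  refine norm_of fun v hv => ?_
  obtain ⟨n, hn, hX⟩ := h.Xex v hv
  have hm : Mm l Np X0 n := ⟨hn, v, hv, hX⟩
  have hnF : n ∈ FF E l Np X0 := by
    have := eF (one_mem E) hm
    have e1 : 1 * n * (1 : G)⁻¹ = n := by group
    rwa [e1] at this
  have h1 : n ∈ l ⊔ Zc := h.zS n (h.WS (h.NW hn)) (h.Wsq n (h.NW hn)) (fun t ht => cm' (hS ht) hnF)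
    (fun g hg => h.Mm_ct (h.L'E hg) (h.L'l hg) hm)
  obtain ⟨a, ha, z, hz, e⟩ := mem_sup_comm (fun x hx z hz => h.Wc x (h.lW hx) z (h.NW (h.ZcN hz))) h1
  have hab : a ∈ b := by
    refine h.lN a ha ?_
    have e1 : a = n * z⁻¹ := by rw [← e]; group
    rw [e1]
    exact mul_mem hn (inv_mem (h.ZcN hz))
  have hz1 : s * z * s⁻¹ = z := by
    have := mem_centralizer_iff.1 (h.ZcC hz) s (h.KC hs)
    rw [this, mul_inv_cancel_right]
  have hsn : s * n * s⁻¹ = n := by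
    rw [← e]
    calc s * (a * z) * s⁻¹ = (s * a * s⁻¹) * (s * z * s⁻¹) := by group
      _ = a * z := by rw [cm (h.Cb (h.KC hs)) hab, hz1]
  have h2 := mul_mem (nm (h.KX hs) hX) (inv_mem hX)
  have e1 : s * (v * n) * s⁻¹ * (v * n)⁻¹ = s * v * s⁻¹ * v⁻¹ := by
    calc s * (v * n) * s⁻¹ * (v * n)⁻¹ = s * v * s⁻¹ * (s * n * s⁻¹) * n⁻¹ * v⁻¹ := by group
      _ = s * v * s⁻¹ * v⁻¹ := by rw [hsn]; group
  rw [e1] at h2
  have h3 := h.bl (h.XN _ h2 (h.Kl s hs v hv))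
  have e2 : s * v * s⁻¹ = (s * v * s⁻¹ * v⁻¹) * v := by group
  rw [e2]
  exact mul_mem h3 hv

/-- **THEOREM N, (2) - (5).** -/
theorem false : False := by
  have hS := h.not_cent
  have hq := h.q2
  obtain ⟨A, hA, hAF, hoff⟩ := h.off (FF E l Np X0) h.FW (h.BE.trans h.EF)
    (fun x hx y hy => h.Wc x (h.FW hx) y (h.FW hy)) (fun x hx => h.Wsq x (h.FW hx)) lF
  have mono : ∀ t ∈ A, (centralizer ({t} : Set G)).relIndex (FF E l Np X0) ≤
      (centralizer (A : Set G)).relIndex (FF E l Np X0) := fun t ht =>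
    Subgroup.relIndex_le_of_le_left (centralizer_le (by simpa using ht)) index_ne_zero_of_finite
  by_cases hAS : A ≤ S
  · obtain ⟨t, ht, htF⟩ := SetLike.not_le_iff_exists.1 hAF
    have h1 := h.idx_t (hAS ht) htF
    have h2 := h.idx_S hAS
    have h3 := mono t ht
    nlinarith
  · obtain ⟨x, hxA, hxS⟩ := SetLike.not_le_iff_exists.1 hAS
    have hxB := hA hxA
    have hxl : x ∉ centralizer (l : Set G) := fun h1 => hxS ((h.Sm x).2 ⟨hxB, h1⟩)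
    set F := FF E l Np X0 with hF
    have hCl : centralizer (F : Set G) ≤ centralizer (l : Set G) := centralizer_le (lF (E := E) (Np := Np) (X0 := X0))
    -- `|A : C_A(F)| = |A ∩ S : C_A(F)| |A : A ∩ S|`
    have hprod : (centralizer (F : Set G)).relIndex (A ⊓ S) * (A ⊓ S).relIndex A =
        (centralizer (F : Set G)).relIndex A := by
      have h1 := relIndex_mul_relIndex (A ⊓ centralizer (F : Set G)) (A ⊓ S) A
        (fun y hy => ⟨hy.1, (h.Sm y).2 ⟨hA hy.1, hCl hy.2⟩⟩) inf_le_left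
      have h2 : (A ⊓ centralizer (F : Set G)).relIndex A = (centralizer (F : Set G)).relIndex A :=
        inf_relIndex_left _ _
      have h3 : (A ⊓ centralizer (F : Set G)).relIndex (A ⊓ S) = (centralizer (F : Set G)).relIndex (A ⊓ S) := by
        rw [← inf_relIndex_right, ← inf_relIndex_right (centralizer (F : Set G))]
        congr 1
        exact le_antisymm (le_inf (inf_le_left.trans inf_le_right) inf_le_right)
          (le_inf (le_inf (inf_le_right.trans inf_le_left) inf_le_left) inf_le_right)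
      rw [h2, h3] at h1
      exact h1
    -- `|A : A ∩ S| ≤ q`
    obtain ⟨v₀, hv, hvb⟩ := h.exists_v0
    have hidx : (A ⊓ S).relIndex A ≤ q := by
      have h1 := relIndex_le_card (H := A ⊓ S) (S := A) (X := b) (fun t => ct t v₀)
        (fun t ht => h.com t (hA ht) v₀ hv) (fun t ht t' ht' e => by
          have hm : t⁻¹ * t' ∈ A := mul_mem (inv_mem ht) ht'
          refine ⟨hm, (h.Sm _).2 ⟨hA hm, h.free _ (hA hm) v₀ hv hvb ?_⟩⟩
          have e1 : t * v₀ * t⁻¹ = t' * v₀ * t'⁻¹ := mul_right_cancel e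
          calc t⁻¹ * t' * v₀ = t⁻¹ * (t' * v₀ * t'⁻¹) * t' := by group
            _ = t⁻¹ * (t * v₀ * t⁻¹) * t' := by rw [e1]
            _ = v₀ * (t⁻¹ * t') := by group)
      rwa [h.cb] at h1
    by_cases hA0 : A ⊓ S ≤ centralizer (F : Set G)
    · have h1 : (centralizer (F : Set G)).relIndex (A ⊓ S) = 1 := relIndex_eq_one.2 hA0
      rw [h1, one_mul] at hprod
      have h2 := h.idx_x hxB hxl hS
      have h3 := mono x hxA
      exact absurd ((h3.trans hoff).trans (hprod.symm.le.trans hidx)) (not_le.2 h2)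
    · obtain ⟨t, ht, htF⟩ := SetLike.not_le_iff_exists.1 hA0
      have h1 := h.idx_t ht.2 htF
      have h2 := h.idx_S (A := A ⊓ S) inf_le_right
      -- `C_F(A) < C_F(t)`
      have h3 := relIndex_mul_relIndex (F ⊓ centralizer (A : Set G)) (F ⊓ centralizer ({t} : Set G)) F
        (inf_le_inf_left _ (centralizer_le (by simpa using ht.1))) inf_le_left
      rw [inf_relIndex_left, inf_relIndex_left] at h3
      have h4 : (F ⊓ centralizer (A : Set G)).relIndex (F ⊓ centralizer ({t} : Set G)) ≠ 1 := by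
        intro h5
        have h6 := relIndex_eq_one.1 h5
        apply hxl
        refine mem_centralizer_iff.2 fun v hv => ?_
        have h7 : v ∈ F ⊓ centralizer ({t} : Set G) :=
          ⟨lF hv, mem_centralizer_singleton_iff.2 (cm' (h.Sl ht.2) hv).symm⟩
        exact ((mem_centralizer_iff.1 (h6 h7).2) x hxA).symm
      have h5 : (F ⊓ centralizer (A : Set G)).relIndex (F ⊓ centralizer ({t} : Set G)) ≠ 0 :=
        index_ne_zero_of_finite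
      have h6 : 2 ≤ (F ⊓ centralizer (A : Set G)).relIndex (F ⊓ centralizer ({t} : Set G)) := by omega
      have h7 : (centralizer (F : Set G)).relIndex A ≤ q * q := by
        rw [← hprod]; exact Nat.mul_le_mul h2 hidx
      have h8 : 2 * q ^ 2 ≤ (centralizer (A : Set G)).relIndex F := by
        rw [← h3]; exact Nat.mul_le_mul h6 h1
      nlinarith

end NV

end Cfsg.Agent.Omega.TCQ.R.ThN
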