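import Cfsg.Agent.Omega.TCQ.R.Plug
import Cfsg.Agent.Omega.TCQ.R.ThN
import Cfsg.Agent.Omega.NO3S.EThree.RQ

/-!
# THEOREM N, `k = 2`, all `q`: the end over `FQ` (helper381 #23328)

* `false_of_H` : no `A ≤ C(Z i)` with (H) moves `N_i`;
* `oneB_of` : **(1b)** = `OneB Z U`.
-/

set_option autoImplicit false
set_option linter.unusedSectionVars false

namespace Cfsg.Agent.Omega.TCQ.R.End

open Subgroup Cfsg Cfsg.Agent.ZN Cfsg.Agent.Omega.MinPar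
open Cfsg.Agent.Omega.NoFF.Basic (conj_conj mem_conj conj_le_iff conj_le_centralizer comm_symm comm_mono)
open Cfsg.Agent.Omega.NOThreeL.Pair (conj_eq_of_mem)
open Cfsg.Agent.Omega.OM.PG
open Cfsg.Agent.Omega.OM.PG.Peel (XW)
open Cfsg.Agent.Omega.NO3S.EThree Cfsg.Agent.Omega.NO3S.EThree.FQ
open Cfsg.Agent.Omega.NO3S.EThree.ExactA (eab_iff eab_mono eab_sup)
open Cfsg.Agent.Omega.TCQ.R.Can Cfsg.Agent.Omega.TCQ.R.ThN Cfsg.Agent.Omega.TCQ.R.Plug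
open Cfsg.Agent.ZN.ChoiceSit (Syl)
open Cfsg.Agent.ZN.ChoiceBase (AA)
open scoped Pointwise commutatorElement

universe u

variable {G : Type u} [Group G] [Finite G]

variable {Z U : Fin 2 → Subgroup G} {B : Subgroup G} {q : ℕ} (D : FQ Z U B q) {i : Fin 2}
include D

/-- **THEOREM N.** -/
theorem false_of_H (noD : NoDQ Z) (noQ : NoQQ Z) (hL : LvIn Z U B) (hrad : Z i ≤ NN Z (Z i))
    (hV : ¬ U i ≤ NN Z (Z i)) {A : Subgroup G} (hA2 : IsPGroup 2 A) (hAc : A ≤ centralizer (Z i : Set G))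
    (hAX : ∀ x ∈ XW Z U (Z i), ∀ f ∈ A, x * f * x⁻¹ * f⁻¹ ∈ NN Z (Z i))
    (hmv : ¬ A ≤ centralizer (NN Z (Z i) : Set G))
    (hH : ∀ W : Subgroup G, IsElementaryAbelian 2 W → XW Z U (Z i) ≤ W → W ≤ QQ (Z i) →
      normalizer (Z i : Set G) ≤ normalizer (W : Set G) → Hyp Z U i W A) : False := by
  obtain ⟨T, hT, hTU⟩ := hL.syl i
  obtain ⟨X0, W, c⟩ := exists_cp D noD noQ hrad hV hT hTU
  exact (nv_of D hL hrad c hT hTU hA2 hAc hAX hmv (hH W c.We c.XWW c.WQ c.HW)).false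

/-- **(1b).** -/
theorem oneB_of (noD : NoDQ Z) (noQ : NoQQ Z) (hL : LvIn Z U B) (hrad : ∀ i, Z i ≤ NN Z (Z i))
    (hV : ∀ i, ¬ U i ≤ NN Z (Z i)) : OneB Z U := by
  intro i A hA hc
  by_contra hmv
  have hAB : A ≤ B := hA.2.1.trans D.O_le_B
  have hAN : A ≤ normalizer (NN Z (Z i) : Set G) := (hAB.trans (D.B_le_HH i)).trans (D.HH_norm_N i)
  have hXO : XW Z U (Z i) ≤ OO Z := (D.XW_le_Q i).trans (D.Q_le_O i)
  have hAX : ∀ x ∈ XW Z U (Z i), ∀ f ∈ A, x * f * x⁻¹ * f⁻¹ ∈ NN Z (Z i) := by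
    intro x hx f hf
    exact EK3.ThN.comm_mem (D.N_eab i) (D.N_le_O i) (noD i) hA (D.XW_eab i) hXO (N_le_XW D) hc hAN hx hf
  refine false_of_H D noD noQ hL (hrad i) (hV i) (D.B2.to_le hAB) (hAB.trans (D.B_le.trans (D.D_le_cent i))) hAX
    hmv ?_
  intro W hWe hXW hWQ hHW y hy hyX hyN hmy n hn hb f hf
  refine EK3.ThN.oneB (D.N_eab i) (D.N_le_O i) (noD i) hA (N_le_XW D) hXW hWe (hWQ.trans (D.Q_le_O i)) hc hAN
    ((hAB.trans (D.B_le_HH i)).trans hHW) hyX ?_ hyN hmy hn ?_ hf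
  · intro a ha u hu hu1 hau
    -- `a` normalises `y`
    have h1 : MulAut.conj a • y = y := by
      refine D.ti _ _ (hy.conj a) hy _ ?_ hau ?_
      · rw [mem_conj]
        have e2 : a⁻¹ * (a * u * a⁻¹) * a = u := by group
        rwa [e2]
      · intro h1
        apply hu1
        have e2 : u = a⁻¹ * (a * u * a⁻¹) * a := by group
        rw [e2, h1]; group
    refine mem_centralizer_iff.2 fun w hw => ?_
    have h2 := hAX w (hyX hw) a ha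
    have h3 : a * w⁻¹ * a⁻¹ ∈ y := by
      rw [← h1, mem_conj]
      have e2 : a⁻¹ * (a * w⁻¹ * a⁻¹) * a = w⁻¹ := by group
      rw [e2]; exact inv_mem hw
    have h4 : w * a * w⁻¹ * a⁻¹ ∈ y ⊓ NN Z (Z i) := by
      refine ⟨?_, h2⟩
      have e2 : w * a * w⁻¹ * a⁻¹ = w * (a * w⁻¹ * a⁻¹) := by group
      rw [e2]; exact mul_mem hw h3
    rw [hyN, mem_bot] at h4
    exact mul_inv_eq_iff_eq_mul.1 (mul_inv_eq_one.1 h4)
  · intro c hcA
    exact hb c (hc hcA)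

end Cfsg.Agent.Omega.TCQ.R.End
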