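import Cfsg.Agent.Omega.NO3S.EThree.FrQOf

/-!
# THEOREM N (#23328), the field `zS` of `NV` (helper381's interface #23934), over the frame `Bg`, every level, every `k`

`S_i = C_B(V_i)`:

* `hZO` : an involution of `Z(S_i)` lies in `V_i Z_J`;
* `zS`  : if moreover `[x, L_j] ≤ Z_i` (`j ≠ i`, `L_j := P ∩ C(C j)`), then `x ∈ V_i (Z_J ∩ C j)`;
* `zS_two` : `k = 2`, in the literal form of `NV.zS` with `L' = C_G(V_i)`: `x ∈ V_i`; `sylU` : `N_S(Z i)`.
-/

set_option autoImplicit false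
set_option linter.unusedSectionVars false

namespace Cfsg.Agent.Omega.TCQ.R.ZS

open Subgroup Cfsg Cfsg.Agent.ZN.ChoiceBase
open Cfsg.Agent.ZN (zc zl o2)
open Cfsg.Agent.ZN.ChoiceSit (Syl)
open Cfsg.Agent.Omega.OM Cfsg.Agent.Omega.OM.Uni
open Cfsg.Agent.Omega.NO3S.EThree.Frame
open scoped Pointwise

universe u

variable {G : Type u} [Group G] [Finite G] {S : Sylow 2 G} {P : Subgroup G} {ι : Type} {B ZJ : Subgroup G}
  {L W Z C : ι → Subgroup G} {q : ℕ} (h : Bg S P B ZJ L W Z C q)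
include h

/-- **(hZO)** -/
theorem hZO' (i : ι) {x : G} (hx : x ∈ B) (_hxi : x ∈ centralizer (W i : Set G)) (hx2 : x ^ 2 = 1)
    (hc : ∀ t ∈ B, t ∈ centralizer (W i : Set G) → t * x = x * t) :
    ∃ w ∈ W i, ∃ c ∈ C i, c ∈ ZJ ∧ x = w * c := by
  have hVS : ∀ v ∈ zl (S : Subgroup G) P, v ∈ centralizer (W i : Set G) := fun v hv =>
    mem_centralizer_iff.2 fun w hw => h.fr.Vc (h.fr.WV i hw) hv
  have hxQ : x ∈ o2 P := (h.fr.mem_Q x hx).2 fun v hv => (hc v (h.fr.VB hv) (hVS v hv)).symm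
  have hxV : x ∈ zl (S : Subgroup G) P := by
    refine h.fr.zcQ x hxQ hx2 fun y hy => (hc y (h.fr.QB hy) ?_).symm
    exact mem_centralizer_iff.2 fun w hw => (h.fr.cQ hy (h.fr.WV i hw)).symm
  obtain ⟨w, hw, c, hci, e⟩ := h.fr.WC i x hxV
  refine ⟨w, hw, c, hci, (h.fr.mem_ZJ c).2 ⟨h.fr.CV i hci, fun b hb => ?_⟩, e⟩
  -- an element of `S_i` centralises `c`
  have key : ∀ t ∈ B, t ∈ centralizer (W i : Set G) → t * c = c * t := by
    intro t ht htc
    have h1 : Commute t x := hc t ht htc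
    have h2 : Commute t w := (mem_centralizer_iff.1 htc w hw).symm
    have h3 : c = w⁻¹ * x := by rw [e]; group
    rw [h3]
    exact (h2.inv_right.mul_right h1).eq
  -- decompose `b`
  by_cases hWZ : ∃ v ∈ W i, v ∉ Z i
  · obtain ⟨v, hv, hvZ⟩ := hWZ
    obtain ⟨b', hb', hb'C, e'⟩ := h.root i v hv hvZ _ ((h.fr.blk i).com b hb v hv)
    have h4 : (b'⁻¹ * b) * v = v * (b'⁻¹ * b) := by
      have h5 : b' * v * b'⁻¹ = b * v * b⁻¹ := mul_right_cancel e'
      calc (b'⁻¹ * b) * v = b'⁻¹ * (b * v * b⁻¹) * b := by group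
        _ = b'⁻¹ * (b' * v * b'⁻¹) * b := by rw [h5]
        _ = v * (b'⁻¹ * b) := by group
    have h6 : b'⁻¹ * b ∈ centralizer (W i : Set G) := mem_centralizer_iff.2 fun u hu =>
      ((h.fr.blk i).free _ (mul_mem (inv_mem hb') hb) v hv hvZ h4 u hu).symm
    have h7 : Commute (b'⁻¹ * b) c := key _ (mul_mem (inv_mem hb') hb) h6
    have h8 : Commute b' c := (mem_centralizer_iff.1 hb'C c hci).symm
    have h9 : Commute (b' * (b'⁻¹ * b)) c := h8.mul_left h7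
    rw [mul_inv_cancel_left] at h9
    exact h9.eq
  · push Not at hWZ
    refine key b hb (mem_centralizer_iff.2 fun u hu => ?_)
    exact ((h.fr.blk i).cZ b hb u (hWZ u hu)).symm

theorem hZO (i : ι) {x : G} (hx : x ∈ B) (hxi : x ∈ centralizer (W i : Set G)) (hx2 : x ^ 2 = 1)
    (hc : ∀ t ∈ B, t ∈ centralizer (W i : Set G) → t * x = x * t) : x ∈ W i ⊔ ZJ := by
  obtain ⟨w, hw, c, -, hcZ, rfl⟩ := hZO' h i hx hxi hx2 hc
  exact mul_mem (mem_sup_left hw) (mem_sup_right hcZ)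

omit h in
/-- three cosets -/
theorem exists_third {W Z : Subgroup G} {v : G} (hc : 2 * Nat.card Z < Nat.card W) :
    ∃ v' ∈ W, v' ∉ Z ∧ v'⁻¹ * v ∉ Z := by
  classical
  by_contra hcon
  push Not at hcon
  have h1 : Function.Injective (fun w : W => if hw : (w : G) ∈ Z then ((⟨w, hw⟩ : Z), true)
      else ((⟨(w : G)⁻¹ * v, hcon w w.2 hw⟩ : Z), false)) := by
    intro a b hab
    dsimp only at hab
    split_ifs at hab with h2 h3 h3
    · have h4 : (⟨(a : G), h2⟩ : Z) = ⟨(b : G), h3⟩ := congrArg Prod.fst hab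
      exact Subtype.ext (Subtype.mk.inj h4)
    · exact absurd (congrArg Prod.snd hab) (by simp)
    · exact absurd (congrArg Prod.snd hab) (by simp)
    · have h4 : (a : G)⁻¹ * v = (b : G)⁻¹ * v := congrArg Subtype.val (congrArg Prod.fst hab)
      exact Subtype.ext (inv_injective (mul_right_cancel h4))
  have h2 := Nat.card_le_card_of_injective _ h1
  rw [Nat.card_prod, Nat.card_eq_fintype_card (α := Bool), Fintype.card_bool] at h2
  omega

/-- `P ∩ C(C j)` has no fixed point on `Z j`. -/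
theorem no_fix (j : ι) {z : G} (hz : z ∈ Z j)
    (hf : ∀ g ∈ P, g ∈ centralizer (C j : Set G) → g * z * g⁻¹ = z) : z = 1 := by
  by_contra hz1
  have hq : Nat.card (Z j) = q := h.fr.cardZ j
  have hW : Nat.card (W j) = q * q := by rw [(h.fr.blk j).card, hq]
  have h2 : 2 ≤ q := by
    rw [← hq]
    exact Subgroup.one_lt_card_iff_ne_bot _ |>.2 (h.Z_ne j)
  rcases Nat.lt_or_ge 2 q with h3 | h3
  · obtain ⟨v, hv, hvZ⟩ : ∃ v ∈ W j, v ∉ Z j := by
      by_contra hcon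
      push Not at hcon
      have h4 := Subgroup.card_le_of_le (show W j ≤ Z j from hcon)
      rw [hq, hW] at h4
      nlinarith
    obtain ⟨v', hv', hv'Z, hvv⟩ := exists_third (W := W j) (Z := Z j) (v := v) (by rw [hq, hW]; nlinarith)
    obtain ⟨t, htP, htC, -, -, -, ht⟩ := (h.scal h3 j).ex v hv hvZ v' hv' hv'Z
    exact hz1 (ht hvv z ((h.fr.blk j).ZV hz) (hf t htP htC))
  · have hq2 : q = 2 := le_antisymm h3 h2
    obtain ⟨x, hx, hxZ⟩ : ∃ v ∈ W j, v ∉ Z j := by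
      by_contra hcon
      push Not at hcon
      have h4 := Subgroup.card_le_of_le (show W j ≤ Z j from hcon)
      rw [hq, hW] at h4
      nlinarith
    obtain ⟨l, hl, hlc, z', hz', e⟩ := h.tr j x hx (fun e => hxZ (e ▸ one_mem _))
    have h5 : z' = z := by
      by_contra hne
      have hz'1 : z' ≠ 1 := by
        rintro rfl
        rw [mul_one, mul_inv_cancel] at e
        exact hxZ (e ▸ one_mem _)
      have h6 : Nat.card (Z j) = 2 := by rw [hq, hq2]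
      classical
      have : Fintype (Z j) := Fintype.ofFinite _
      rw [Nat.card_eq_fintype_card] at h6
      have h7 : (Finset.univ : Finset (Z j)).card = 2 := h6
      have h8 : ({1, ⟨z, hz⟩, ⟨z', hz'⟩} : Finset (Z j)).card = 3 := by
        rw [Finset.card_eq_three]
        exact ⟨1, ⟨z, hz⟩, ⟨z', hz'⟩, fun e => hz1 (congrArg Subtype.val e).symm,
          fun e => hz'1 (congrArg Subtype.val e).symm, fun e => hne (congrArg Subtype.val e).symm, rfl⟩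
      have h9 := Finset.card_le_univ ({1, ⟨z, hz⟩, ⟨z', hz'⟩} : Finset (Z j))
      rw [h8] at h9
      omega
    subst h5
    rw [hf l hl hlc] at e
    exact hxZ (e ▸ hz')

/-- **(zS)** -/
theorem zS' {i j : ι} (hij : i ≠ j) {x : G} (hx : x ∈ B) (hxi : x ∈ centralizer (W i : Set G)) (hx2 : x ^ 2 = 1)
    (hc : ∀ t ∈ B, t ∈ centralizer (W i : Set G) → t * x = x * t)
    (hL : ∀ g ∈ P, g ∈ centralizer (C j : Set G) → g * x * g⁻¹ * x⁻¹ ∈ Z i) :
    ∃ w ∈ W i, ∃ c ∈ C j, c ∈ ZJ ∧ x = w * c := by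
  obtain ⟨w, hw, c, hci, hcZ, e⟩ := hZO' h i hx hxi hx2 hc
  obtain ⟨z, hz, d, hd, hdZ, e'⟩ := h.fr.split_ZJ j hcZ
  have hwC : w ∈ C j := h.fr.WjC j i hij.symm hw
  have hz1 : z = 1 := by
    refine no_fix h j hz fun g hg hgc => ?_
    have h1 : Commute g w := (mem_centralizer_iff.1 hgc w hwC).symm
    have h2 : Commute g d := (mem_centralizer_iff.1 hgc d hd).symm
    have hzW : g * z * g⁻¹ ∈ W j := by
      have h3 := h.fix hg hgc j
      rw [← h3]
      exact ⟨z, (h.fr.blk j).ZV hz, rfl⟩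
    have hgzV := h.fr.WV j hzW
    have h4 : g * x * g⁻¹ * x⁻¹ = g * z * g⁻¹ * z⁻¹ := by
      have e3 : g * x * g⁻¹ = w * (g * z * g⁻¹) * d := by
        have e1 : g * w = w * g := h1.eq
        have e2 : d * g⁻¹ = g⁻¹ * d := h2.symm.inv_right.eq
        calc g * x * g⁻¹ = g * w * z * (d * g⁻¹) := by rw [e, e']; group
          _ = w * g * z * (g⁻¹ * d) := by rw [e1, e2]
          _ = w * (g * z * g⁻¹) * d := by group
      have e4 : w * (g * z * g⁻¹) = (g * z * g⁻¹) * w := h.fr.Vc (h.fr.WV i hw) hgzV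
      have e5 : w * z⁻¹ = z⁻¹ * w := h.fr.Vc (h.fr.WV i hw) (inv_mem (h.fr.ZV j hz))
      rw [e3, e4, e, e']
      calc g * z * g⁻¹ * w * d * (w * (z * d))⁻¹ = g * z * g⁻¹ * (w * z⁻¹) * w⁻¹ := by group
        _ = g * z * g⁻¹ * z⁻¹ := by rw [e5]; group
    have h5 := hL g hg hgc
    rw [h4] at h5
    have h6 : g * z * g⁻¹ * z⁻¹ ∈ W j ⊓ C j := mem_inf.2
      ⟨mul_mem hzW (inv_mem ((h.fr.blk j).ZV hz)), h.fr.WjC j i hij.symm ((h.fr.blk i).ZV h5)⟩
    rw [h.fr.dir j, mem_bot] at h6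
    exact mul_inv_eq_one.1 h6
  refine ⟨w, hw, d, hd, hdZ, ?_⟩
  rw [e, e', hz1, one_mul]

theorem zS {i j : ι} (hij : i ≠ j) {x : G} (hx : x ∈ B) (hxi : x ∈ centralizer (W i : Set G)) (hx2 : x ^ 2 = 1)
    (hc : ∀ t ∈ B, t ∈ centralizer (W i : Set G) → t * x = x * t)
    (hL : ∀ g ∈ P, g ∈ centralizer (C j : Set G) → g * x * g⁻¹ * x⁻¹ ∈ Z i) : x ∈ W i ⊔ (ZJ ⊓ C j) := by
  obtain ⟨w, hw, c, hc1, hc2, rfl⟩ := zS' h hij hx hxi hx2 hc hL
  exact mul_mem (mem_sup_left hw) (mem_sup_right (mem_inf.2 ⟨hc2, hc1⟩))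

omit h in
/-- **(zS)**, `k = 2`, in the form of the field `NV.zS` (`S = C_B(V_i)`, `L' = C_G(V_i)`, `Zc = Z_i`). -/
theorem zS_two {L W Z C : Fin 2 → Subgroup G} (h : Bg S P B ZJ L W Z C q) (i : Fin 2) :
    ∀ x ∈ B ⊓ centralizer (W i : Set G), x ^ 2 = 1 → (∀ t ∈ B ⊓ centralizer (W i : Set G), t * x = x * t) →
      (∀ g ∈ centralizer (W i : Set G), g * x * g⁻¹ * x⁻¹ ∈ Z i) → x ∈ W i := by
  obtain ⟨j, hij⟩ : ∃ j : Fin 2, i ≠ j := by revert i; decide
  intro x hx hx2 hc hL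
  have hC : C j = W i := Cfsg.Agent.Omega.NO3S.EThree.BgQ.C_eq_W h hij.symm
  obtain ⟨w, hw, c, hcj, -, rfl⟩ := zS' h hij (mem_inf.1 hx).1 (mem_inf.1 hx).2 hx2
    (fun t ht htc => hc t (mem_inf.2 ⟨ht, htc⟩)) fun g _ hg => hL g (by rwa [← hC])
  exact mul_mem hw (hC ▸ hcj)

/-- 483's `SylU` : `N_S(Z i)` is Sylow in `N_G(Z i)`, contains `B` and normalises `V_i` (every level). -/
theorem sylU [Finite ι] (i : ι) : ∃ T : Subgroup G, Syl T (normalizer (Z i : Set G)) ∧ B ≤ T ∧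
    T ≤ normalizer (W i : Set G) :=
  ⟨(S : Subgroup G) ⊓ normalizer (Z i : Set G), h.syl i, h.bau_le_T i, by
    rw [h.inf_normalizer i]; exact inf_le_right⟩

end Cfsg.Agent.Omega.TCQ.R.ZS
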