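import Cfsg.Agent.Omega.TCQ.R.OneA
import Cfsg.Agent.Omega.OM.PG.TwoI

/-!
# `TA'` from THEOREM N (`false_of_H`)

`HypA Z U i W A` : the statement `(H)` (= `Plug.Hyp` of helper483).
`FalseH Z U i` : `(H)` is impossible for `A ≤ C(Z i)`, `[X_i, A] ≤ N_i`, `A` moves `N_i`.
`ta_of : FalseH Z U 0 → TA' Z (XW Z U)`.
-/

set_option autoImplicit false
set_option linter.unusedSectionVars false

namespace Cfsg.Agent.Omega.TCQ.R.PlugA

open Subgroup Cfsg
open Cfsg.Agent.ZN Cfsg.Agent.Omega.OM.PG Cfsg.Agent.Omega.OM.PG.Peel Cfsg.Agent.Omega.OM.PG.PeelQ Cfsg.Agent.Omega.OM.PG.ExactQ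
open Cfsg.Agent.Omega.NO3S.EThree Cfsg.Agent.Omega.NO3S.EThree.ExactA
open Cfsg.Agent.Omega.NoFF.Basic (comm_symm conj_conj conj_le_iff conj_le_centralizer)
open scoped Pointwise

universe u

variable {G : Type u} [Group G]

/-- **(H)** -/
def HypA (Z U : Fin 2 → Subgroup G) (i : Fin 2) (W A : Subgroup G) : Prop :=
  ∀ y : Subgroup G, IsPt Z y → y ≤ XW Z U (Z i) → y ⊓ NN Z (Z i) = ⊥ → ¬ A ≤ centralizer (y : Set G) →
    ∀ n ∈ W, (∀ c ∈ centralizer (XW Z U (Z i) : Set G), n * c * n⁻¹ * c⁻¹ ∈ y) →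
      ∀ f ∈ A, n * f * n⁻¹ * f⁻¹ ∈ NN Z (Z i)

/-- The output of THEOREM N. -/
def FalseH (Z U : Fin 2 → Subgroup G) (i : Fin 2) : Prop :=
  ∀ A : Subgroup G, IsPGroup 2 A → A ≤ centralizer (Z i : Set G) →
    (∀ x ∈ XW Z U (Z i), ∀ f ∈ A, x * f * x⁻¹ * f⁻¹ ∈ NN Z (Z i)) → ¬ A ≤ centralizer (NN Z (Z i) : Set G) →
    (∀ W : Subgroup G, IsElementaryAbelian 2 W → XW Z U (Z i) ≤ W → W ≤ QQ (Z i) →
      normalizer (Z i : Set G) ≤ normalizer (W : Set G) → HypA Z U i W A) → False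

/-- critical pairs are conjugate to critical pairs -/
theorem CX.conj {Z U : Fin 2 → Subgroup G} {X : Subgroup G → Subgroup G} (P : PP Z U)
    (hX : ∀ (g : G) (a : Subgroup G), IsPt Z a → X (MulAut.conj g • a) = MulAut.conj g • X a) {d : ℕ}
    {a b : Subgroup G} (h : CX Z X d a b) (g : G) : CX Z X d (MulAut.conj g • a) (MulAut.conj g • b) := by
  refine ⟨PP.pth_conj h.pth g, fun h1 => h.ne ?_, h.com⟩
  rw [hX g _ (PP.pth_pt h.pth), hX g _ (P.pth_pt' h.pth)] at h1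
  have h2 := conj_le_centralizer (g := g⁻¹) h1
  rwa [inv_conj_conj, inv_conj_conj] at h2

variable [Finite G] {Z U : Fin 2 → Subgroup G}

/-- `(H)` for `A = N_b`, `(Z i, b)` critical. -/
theorem hyp_of (P : PP Z U) (F : XF Z (XW Z U)) (hNO : NoP Z) (hti : TIp Z) {i : Fin 2} {W : Subgroup G}
    (hWe : IsElementaryAbelian 2 W) (hXW : XW Z U (Z i) ≤ W) (hWQ : W ≤ QQ (Z i)) {d : ℕ} {b : Subgroup G}
    (h : CX Z (XW Z U) d (Z i) b)
    (hex : XW Z U (Z i) ≤ NN Z (Z i) ⊔ (XW Z U (Z i) ⊓ centralizer (XW Z U b : Set G))) :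
    HypA Z U i W (NN Z b) := by
  intro y hy hyX hyN hmv n hnW hny f hf
  have hWW := eab_iff.1 hWe
  have hnX : n ∈ centralizer (XW Z U (Z i) : Set G) := centralizer_le hXW (hWW.1 hnW)
  have hn2 : n * n = 1 := by rw [← pow_two]; exact hWW.2 n hnW
  exact OneA.comm_mem' P F hNO hti h hex hy hyX hyN hmv (hWQ hnW) hn2 hnX hny hf

/-- **`TA'` from THEOREM N.** -/
theorem ta_of (P : PP Z U) (F : XF Z (XW Z U)) (hNO : NoP Z) (hti : TIp Z) (hF : FalseH Z U 0) :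
    TwoI.TA' Z (XW Z U) := by
  intro d a b h hnc hex
  obtain ⟨k, rfl⟩ := PP.pth_pt h.pth
  have hb := P.pth_pt' h.pth
  have h' := CX.conj P F.conj h k⁻¹
  rw [inv_conj_conj] at h'
  set b' := MulAut.conj k⁻¹ • b with hb'
  have eb : b = MulAut.conj k • b' := by rw [hb', conj_inv_conj]
  have hb'p : IsPt Z b' := hb.conj k⁻¹
  have hex' : XW Z U (Z 0) ≤ NN Z (Z 0) ⊔ (XW Z U (Z 0) ⊓ centralizer (XW Z U b' : Set G)) := by
    have h1 := conj_le_iff (g := k⁻¹) |>.2 hex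
    have h2 : MulAut.conj k⁻¹ • centralizer (XW Z U b : Set G) = centralizer (XW Z U b' : Set G) := by
      rw [hb', XW_conj]
      exact ZN.ChoiceBase.cj_centralizer k⁻¹ _
    rw [XW_conj, NN_conj, Subgroup.smul_sup, Subgroup.smul_inf, inv_conj_conj, inv_conj_conj, h2] at h1
    exact h1
  obtain ⟨a', -, ha', -, -, hXb⟩ := h'.ends P F
  have hNe := NN_eab P hb'p
  refine hF (NN Z b') ?_ ?_ ?_ ?_ (fun W hWe hXW hWQ _ => hyp_of P F hNO hti hWe hXW hWQ h' hex')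
  · exact (MinSimple.VModule.o2_isPGroup _).to_le ((F.NX _ hb'p).trans hXb)
  · exact ((F.NX _ hb'p).trans hXb).trans (P.QQ_le_cent_of_adj (P.adj_symm ha'))
  · intro x hx f hf
    exact OneA.comm_X P F h' hex' hx hf
  · intro h1
    apply hnc
    rw [eb, NN_conj, NN_conj]
    exact comm_symm (conj_le_centralizer h1)

end Cfsg.Agent.Omega.TCQ.R.PlugA
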