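import Cfsg.Agent.Omega.TCQ.VBangQ

/-!
# Field `off` of `NV` (THEOREM N #23328): (V!) over `Mul`, every `k`, every `q`, every stage, with relative indices

`T = B` : `offV`; the other line sizes: `offV'` (`F ≰ Z_J` instead of `W i ≤ F`).
-/

set_option autoImplicit false

namespace Cfsg.Agent.Omega.TCQ.R

open Subgroup Cfsg Cfsg.Agent.ZN.ChoiceBase
open Cfsg.Agent.Omega.Node.MultiOf
open Cfsg.Agent.Omega.FFThm (OffM)

universe u

variable {G : Type u} [Group G]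

/-- `|X| = |X : X ∩ H| |X ∩ H|` -/
theorem card_eq_relIndex_mul (H X : Subgroup G) :
    Nat.card X = H.relIndex X * Nat.card ↥(X ⊓ H) := by
  have h1 : Nat.card ↥(X ⊓ H) = Nat.card ↥(H.subgroupOf X) := by
    rw [inf_comm, ← Subgroup.subgroupOf_map_subtype]
    exact Subgroup.card_map_of_injective X.subtype_injective
  rw [h1, relIndex, mul_comm]
  exact (card_mul_index _).symm

variable [Finite G]

/-- cardinalities -> relative indices -/
theorem relIndex_le_of_card {F A H K : Subgroup G}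
    (h : Nat.card F * Nat.card ↥(A ⊓ H) ≤ Nat.card A * Nat.card ↥(F ⊓ K)) : K.relIndex F ≤ H.relIndex A := by
  rw [card_eq_relIndex_mul K F, card_eq_relIndex_mul H A] at h
  have h1 : 0 < Nat.card ↥(F ⊓ K) := Nat.card_pos
  have h2 : 0 < Nat.card ↥(A ⊓ H) := Nat.card_pos
  have h3 : K.relIndex F * (Nat.card ↥(F ⊓ K) * Nat.card ↥(A ⊓ H)) ≤
      H.relIndex A * (Nat.card ↥(F ⊓ K) * Nat.card ↥(A ⊓ H)) := by
    calc K.relIndex F * (Nat.card ↥(F ⊓ K) * Nat.card ↥(A ⊓ H))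
        = K.relIndex F * Nat.card ↥(F ⊓ K) * Nat.card ↥(A ⊓ H) := by ring
      _ ≤ H.relIndex A * Nat.card ↥(A ⊓ H) * Nat.card ↥(F ⊓ K) := h
      _ = _ := by ring
  exact Nat.le_of_mul_le_mul_right h3 (Nat.mul_pos h1 h2)

section mul

variable {S : Sylow 2 G} {P K B ZJ : Subgroup G} {k q : ℕ} {L W Z C : Fin k → Subgroup G}

/-- `W i ≰ Z_J` -/
theorem W_not_le (h : Mul S P K B ZJ L W Z C q) (i : Fin k) : ¬ W i ≤ ZJ := by
  intro hW
  obtain ⟨b, hb, v, hv, hne⟩ := (h.bg.fr.blk i).ne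
  exact hne (((h.bg.fr.mem_ZJ v).1 (hW hv)).2 b hb)

/-- **(V!)** for `F ≰ Z_J`. -/
theorem offV' (h : Mul S P K B ZJ L W Z C q) :
    ∀ F ≤ B, B ≤ normalizer (F : Set G) → (∀ x ∈ F, ∀ y ∈ F, x * y = y * x) → (∀ x ∈ F, x ^ 2 = 1) →
      ¬ F ≤ ZJ → ∃ A ≤ B, ¬ A ≤ centralizer (F : Set G) ∧
        (centralizer (A : Set G)).relIndex F ≤ (centralizer (F : Set G)).relIndex A := by
  intro F hF hn hc h2 hW
  obtain ⟨A, hA, -, hne, hle⟩ := exists_off_B h hF hn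
    (fun x hx => mem_centralizer_iff.2 fun y hy => hc y hy x hx) h2 hW
  exact ⟨A, hA, hne, relIndex_le_of_card hle⟩

/-- **(V!)**, the literal of `NV.off`. -/
theorem offV (h : Mul S P K B ZJ L W Z C q) (i : Fin k) :
    ∀ F ≤ B, B ≤ normalizer (F : Set G) → (∀ x ∈ F, ∀ y ∈ F, x * y = y * x) → (∀ x ∈ F, x ^ 2 = 1) →
      W i ≤ F → ∃ A ≤ B, ¬ A ≤ centralizer (F : Set G) ∧
        (centralizer (A : Set G)).relIndex F ≤ (centralizer (F : Set G)).relIndex A :=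
  fun F hF hn hc h2 hW => offV' h F hF hn hc h2 fun h1 => W_not_le h i (hW.trans h1)

end mul

end Cfsg.Agent.Omega.TCQ.R
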