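import Cfsg.Agent.Omega.TCQ.R.Gas
import Cfsg.Agent.Omega.NO3S.EThree.IntQ
import Cfsg.Agent.Omega.EK3.ThNOneB
import Cfsg.Agent.Omega.IId.KOne

/-!
# THEOREM N (0), `k = 2`, all `q`: the canonical vectors (helper381 #23328, helper627 #22366)

`D : FQ Z U B q`, `T` Sylow in `N(Z i)`, `T ≤ N(U i)`; `Z i ≤ N_i`, `U i ≰ N_i`.

* `Cp Z U i X0 W` : `X0 / Z i` is the canonical complement of `N_i / Z i` in `U i N_i / Z i`, and
  `W = X_i ⟨n_y(v)⟩` is elementary abelian, `≤ Q_i`, normal in `N(Z i)`;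
* `exists_cp` : existence;
* `K = ⟨A^{N(Z i)}⟩` : `K ≤ C(Z i)`, `[X_i, K] ≤ N_i`, `K ≤ N(X0)`, `K ≤ N(W)`.
-/

set_option autoImplicit false
set_option linter.unusedSectionVars false

namespace Cfsg.Agent.Omega.TCQ.R.Can

open Subgroup Cfsg Cfsg.Agent.ZN Cfsg.Agent.Omega.MinPar
open Cfsg.Agent.Omega.NoFF.Basic (conj_conj mem_conj conj_le_iff conj_le_centralizer comm_symm comm_mono)
open Cfsg.Agent.Omega.NOThreeL.Pair (conj_eq_of_mem)
open Cfsg.Agent.Omega.OM.PG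
open Cfsg.Agent.Omega.OM.PG.Int (Ex)
open Cfsg.Agent.Omega.OM.PG.Peel (XW)
open Cfsg.Agent.Omega.NO3S.EThree Cfsg.Agent.Omega.NO3S.EThree.FQ
open Cfsg.Agent.Omega.NO3S.EThree.ExactA (eab_iff eab_mono eab_sup)
open Cfsg.Agent.ZN.ChoiceSit (Syl syl_not_dvd)
open Cfsg.Agent.ZN.ChoiceBase (AA)
open scoped Pointwise commutatorElement

universe u

variable {G : Type u} [Group G]

theorem closure_comm {S : Set G} (hc : ∀ x ∈ S, ∀ y ∈ S, x * y = y * x) :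
    closure S ≤ centralizer ((closure S : Subgroup G) : Set G) := by
  have h1 : closure S ≤ centralizer S :=
    (closure_le _).2 fun x hx => mem_centralizer_iff.2 fun y hy => hc y hy x hx
  refine (closure_le _).2 fun x hx => mem_centralizer_iff.2 fun y hy => ?_
  exact (mem_centralizer_iff.1 (h1 hy) x hx).symm

theorem closure_eab {S : Set G} (hc : ∀ x ∈ S, ∀ y ∈ S, x * y = y * x) (hs : ∀ x ∈ S, x ^ 2 = 1) :
    IsElementaryAbelian 2 (closure S) := by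
  have h1 := closure_comm hc
  refine eab_iff.2 ⟨h1, fun x hx => ?_⟩
  induction hx using Subgroup.closure_induction with
  | mem x hx => exact hs x hx
  | one => exact one_pow 2
  | mul x y hx hy h2 h3 =>
    have h4 : Commute x y := mem_centralizer_iff.1 (h1 hy) x hx
    rw [h4.mul_pow, h2, h3, one_mul]
  | inv x _ h2 => rw [inv_pow, h2, inv_one]

theorem closure_norm {S : Set G} {H : Subgroup G} (h : ∀ g ∈ H, ∀ x ∈ S, g * x * g⁻¹ ∈ S) :
    H ≤ normalizer ((closure S : Subgroup G) : Set G) := by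
  have key : ∀ g ∈ H, ∀ x ∈ closure S, g * x * g⁻¹ ∈ closure S := by
    intro g hg x hx
    induction hx using Subgroup.closure_induction with
    | mem x hx => exact subset_closure (h g hg x hx)
    | one => rw [mul_one, mul_inv_cancel]; exact one_mem _
    | mul x y _ _ h2 h3 =>
      have e : g * (x * y) * g⁻¹ = (g * x * g⁻¹) * (g * y * g⁻¹) := by group
      rw [e]; exact mul_mem h2 h3
    | inv x _ h2 =>
      have e : g * x⁻¹ * g⁻¹ = (g * x * g⁻¹)⁻¹ := by group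
      rw [e]; exact inv_mem h2
  intro g hg
  rw [mem_normalizer_iff]
  intro x
  refine ⟨key g hg x, fun hx => ?_⟩
  have h2 := key g⁻¹ (inv_mem hg) _ hx
  have e : g⁻¹ * (g * x * g⁻¹) * g⁻¹⁻¹ = x := by group
  rwa [e] at h2

theorem le_normalizer_sup' {g : G} {A C : Subgroup G} (hA : g ∈ normalizer (A : Set G))
    (hC : g ∈ normalizer (C : Set G)) : g ∈ normalizer ((A ⊔ C : Subgroup G) : Set G) := by
  refine ChoiceBase.mem_normalizer_iff_cj.2 ?_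
  change MulAut.conj g • (A ⊔ C) = A ⊔ C
  rw [Subgroup.smul_sup, conj_eq_of_mem hA, conj_eq_of_mem hC]

/-- **The canonical complement and the canonical vectors.** -/
structure Cp (Z U : Fin 2 → Subgroup G) (i : Fin 2) (X0 W : Subgroup G) : Prop where
  lN : ∀ x ∈ U i, x ∈ NN Z (Z i) → x ∈ Z i
  bX : Z i ≤ X0
  XN : ∀ x ∈ X0, x ∈ NN Z (Z i) → x ∈ Z i
  Xl : X0 ≤ U i ⊔ NN Z (Z i)
  Xex : ∀ v ∈ U i, ∃ n ∈ NN Z (Z i), v * n ∈ X0
  inv : normalizer (Z i : Set G) ⊓ normalizer ((U i ⊔ NN Z (Z i) : Subgroup G) : Set G) ≤ normalizer (X0 : Set G)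
  We : IsElementaryAbelian 2 W
  XWW : XW Z U (Z i) ≤ W
  WQ : W ≤ QQ (Z i)
  HW : normalizer (Z i : Set G) ≤ normalizer (W : Set G)
  MW : ∀ e ∈ normalizer (U i : Set G), ∀ m ∈ NN Z (Z i), (∃ v ∈ U i, v * m ∈ X0) → e * m * e⁻¹ ∈ W
  cen : ∀ e ∈ normalizer (U i : Set G), ∀ m ∈ NN Z (Z i), (∃ v ∈ U i, v * m ∈ X0) → ∀ t ∈ centralizer (U i : Set G),
    ∃ z ∈ Z i, t * (e * m * e⁻¹) * t⁻¹ * (e * m * e⁻¹)⁻¹ = e * z * e⁻¹
  cX : ∀ e ∈ normalizer (U i : Set G), ∀ m ∈ NN Z (Z i), (∃ v ∈ U i, v * m ∈ X0) →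
    e * m * e⁻¹ ∈ centralizer (XW Z U (Z i) : Set G)
  Qj : ∀ j, i ≠ j → ∀ e ∈ normalizer (U i : Set G), ∀ m ∈ NN Z (Z i), (∃ v ∈ U i, v * m ∈ X0) →
    e * m * e⁻¹ ∈ QQ (Z j)

section

variable {Z U : Fin 2 → Subgroup G} {B : Subgroup G} {q : ℕ} (D : FQ Z U B q) {i : Fin 2}
include D

theorem lN (hrad : Z i ≤ NN Z (Z i)) (hV : ¬ U i ≤ NN Z (Z i)) : ∀ x ∈ U i, x ∈ NN Z (Z i) → x ∈ Z i := by
  intro x hx hxN
  by_contra hxZ
  apply hV
  intro y hy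
  by_cases hyZ : y ∈ Z i
  · exact hrad hyZ
  obtain ⟨j, hij⟩ := fin_two_ex i
  obtain ⟨h, -, h1, -, h2⟩ := D.tor i j hij x hx hxZ y hy hyZ
  have h3 : h ∈ HH (Z i) := ChoiceBase.mem_normalizer_iff_cj.2 h1
  have h4 : h * x * h⁻¹ ∈ NN Z (Z i) := (mem_normalizer_iff.1 (D.HH_norm_N i h3) x).1 hxN
  have e : y = (h * x * h⁻¹) * (y⁻¹ * (h * x * h⁻¹))⁻¹ := by group
  rw [e]
  exact mul_mem h4 (inv_mem (hrad h2))

/-- an element of `N(Z i) ∩ N(U i)` normalises `U i N_i` -/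
theorem mem_hat {g : G} (hg : g ∈ normalizer (Z i : Set G)) (hg' : g ∈ normalizer (U i : Set G)) :
    g ∈ normalizer ((U i ⊔ NN Z (Z i) : Subgroup G) : Set G) :=
  le_normalizer_sup' hg' (D.HH_norm_N i hg)

theorem U_comm_N {v n : G} (hv : v ∈ U i) (hn : n ∈ NN Z (Z i)) : v * n = n * v :=
  (mem_centralizer_iff.1 (D.Q_cent_N i (D.UQ' i hv)) n hn).symm

theorem mem_sup {x : G} (hx : x ∈ U i ⊔ NN Z (Z i)) : ∃ v ∈ U i, ∃ n ∈ NN Z (Z i), x = v * n := by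
  refine OM.KTwo.exists_mul_of_mem_sup ?_ hx
  intro n hn
  refine centralizer_le_normalizer _ (mem_centralizer_iff.2 fun v hv => U_comm_N D hv hn)

theorem U_le_XW : U i ≤ XW Z U (Z i) :=
  (le_iSup (fun l : {l : Subgroup G // LnOn Z U (Z i) l} => (l : Subgroup G)) ⟨U i, D.ln i⟩).trans le_sup_right

theorem N_le_XW : NN Z (Z i) ≤ XW Z U (Z i) := le_sup_left

theorem HH_norm_XW : HH (Z i) ≤ normalizer (XW Z U (Z i) : Set G) := by
  intro g hg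
  refine ChoiceBase.mem_normalizer_iff_cj.2 ?_
  change MulAut.conj g • XW Z U (Z i) = XW Z U (Z i)
  rw [← Peel.XW_conj, conj_eq_of_mem hg]

/-- transitivity on the points of `U i`, fixing `Z j` -/
theorem tr' {j : Fin 2} (hij : i ≠ j) {e : G} (he : e ∈ normalizer (U i : Set G)) :
    ∃ g : G, MulAut.conj g • Z i = MulAut.conj e • Z i ∧ MulAut.conj g • Z j = Z j ∧ MulAut.conj g • U i = U i := by
  obtain ⟨s, s0, s1, s2, s3⟩ := D.swap
  rcases fin_two_pair hij with ⟨rfl, rfl⟩ | ⟨rfl, rfl⟩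
  · have h1 : MulAut.conj e • Z 0 ≤ U 0 := by
      have h2 := conj_le_iff (g := e) |>.2 (D.ZU' 0)
      rwa [conj_eq_of_mem he] at h2
    obtain ⟨l, h2, h3, h4, -⟩ := D.tr e h1
    exact ⟨l, h2, h3, h4⟩
  · have es : MulAut.conj s⁻¹ • U 1 = U 0 := by rw [← s2, inv_conj_conj]
    have ez : MulAut.conj s⁻¹ • Z 1 = Z 0 := by rw [← s0, inv_conj_conj]
    have ez0 : MulAut.conj s⁻¹ • Z 0 = Z 1 := by rw [← s1, inv_conj_conj]
    have h1 : MulAut.conj (s⁻¹ * e * s) • Z 0 ≤ U 0 := by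
      have hk : MulAut.conj (s⁻¹ * e * s) • U 0 = U 0 := by
        rw [← conj_conj, ← conj_conj, s2, conj_eq_of_mem he, es]
      have h2 := conj_le_iff (g := s⁻¹ * e * s) |>.2 (D.ZU' 0)
      rwa [hk] at h2
    obtain ⟨l, h2, h3, h4, -⟩ := D.tr _ h1
    refine ⟨s * l * s⁻¹, ?_, ?_, ?_⟩
    · rw [← conj_conj, ez, ← conj_conj, h2, conj_conj]
      have e1 : s * (s⁻¹ * e * s) = e * s := by group
      rw [e1, ← conj_conj, s0]
    · rw [← conj_conj, ez0, ← conj_conj, h3, s1]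
    · rw [← conj_conj, es, ← conj_conj, h4, s2]

variable [Finite G]

/-- `(N_j, N_i)` is exact -/
theorem ex_N (hNO : NoDQ Z) (i j : Fin 2) : Ex (NN Z (Z j)) (NN Z (Z i)) :=
  le_antisymm (hNO i _ (D.N_eab j) (D.N_le_O j)) (hNO j _ (D.N_eab i) (D.N_le_O i))

theorem exists_cp (hNO : NoDQ Z) (hQ : NoQQ Z) (hrad : Z i ≤ NN Z (Z i)) (hV : ¬ U i ≤ NN Z (Z i)) {T : Subgroup G}
    (hT : Syl T (normalizer (Z i : Set G))) (hTU : T ≤ normalizer (U i : Set G)) :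
    ∃ X0 W : Subgroup G, Cp Z U i X0 W := by
  have hlN := lN D hrad hV
  set N := NN Z (Z i) with hN
  have hNe := D.N_eab i
  have hUe := D.eU i
  have hcUN : U i ≤ centralizer (N : Set G) := (D.UQ' i).trans (D.Q_cent_N i)
  have hEe : IsElementaryAbelian 2 (U i ⊔ N : Subgroup G) := eab_sup hUe hNe hcUN
  -- (0) the canonical complement
  have hTH : T ≤ normalizer (Z i : Set G) ⊓ normalizer ((U i ⊔ N : Subgroup G) : Set G) := fun t ht =>
    ⟨hT.1 ht, mem_hat D (hT.1 ht) (hTU ht)⟩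
  have hodd : Odd (T.relIndex (normalizer (Z i : Set G) ⊓ normalizer ((U i ⊔ N : Subgroup G) : Set G))) := by
    have h1 := syl_not_dvd hT
    rw [← Nat.not_even_iff_odd, even_iff_two_dvd]
    intro h2
    apply h1
    have h3 := relIndex_mul_relIndex T _ _ hTH
      (inf_le_left : normalizer (Z i : Set G) ⊓ normalizer ((U i ⊔ N : Subgroup G) : Set G) ≤ _)
    rw [← h3]
    exact Dvd.dvd.mul_right h2 _
  obtain ⟨X0, hbX, hXN, hXl, hXex, hinv⟩ := exists_X (E := U i ⊔ N) (N := N) (l := U i) (b := Z i) (T := T)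
    (H := normalizer (Z i : Set G) ⊓ normalizer ((U i ⊔ N : Subgroup G) : Set G))
    (fun x hx y hy => (mem_centralizer_iff.1 ((eab_iff.1 hEe).1 hy) x hx)) (eab_iff.1 hEe).2 hrad le_sup_right
    le_sup_left hlN (fun x hx => mem_sup D hx) inf_le_right (inf_le_left.trans (D.HH_norm_N i)) inf_le_left hTU hodd
  -- the canonical vectors
  have hconjN : ∀ g ∈ HH (Z i), ∀ n ∈ N, g * n * g⁻¹ ∈ N := fun g hg n hn =>
    (mem_normalizer_iff.1 (D.HH_norm_N i hg) n).1 hn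
  have hNL : ∀ h ∈ normalizer (Z i : Set G), h ∈ normalizer (U i : Set G) → ∀ m ∈ N, (∃ v ∈ U i, v * m ∈ X0) →
      h * m * h⁻¹ ∈ N ∧ ∃ v ∈ U i, v * (h * m * h⁻¹) ∈ X0 := by
    rintro h hh hh' m hm ⟨v, hv, hvm⟩
    refine ⟨hconjN h hh m hm, h * v * h⁻¹, (mem_normalizer_iff.1 hh' v).1 hv, ?_⟩
    have h1 := (mem_normalizer_iff.1 (hinv ⟨hh, mem_hat D hh hh'⟩) _).1 hvm
    have e : h * v * h⁻¹ * (h * m * h⁻¹) = h * (v * m) * h⁻¹ := by group
    rwa [e]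
  -- (w0)
  have hcU : centralizer (U i : Set G) ≤ HH (Z i) :=
    (centralizer_le (D.ZU' i)).trans (centralizer_le_normalizer _)
  have w0 : ∀ m ∈ N, (∃ v ∈ U i, v * m ∈ X0) → ∀ t ∈ centralizer (U i : Set G), t * m * t⁻¹ * m⁻¹ ∈ Z i := by
    rintro m hm ⟨v, hv, hvm⟩ t ht
    have htm := hconjN t (hcU ht) m hm
    have h1 := (mem_normalizer_iff.1 (hinv ⟨hcU ht, mem_hat D (hcU ht) (centralizer_le_normalizer _ ht)⟩) _).1 hvm
    have e1 : t * (v * m) * t⁻¹ = v * (t * m * t⁻¹) := by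
      calc t * (v * m) * t⁻¹ = (t * v) * m * t⁻¹ := by group
        _ = (v * t) * m * t⁻¹ := by rw [mem_centralizer_iff.1 ht v hv]
        _ = _ := by group
    rw [e1] at h1
    have h2 : m⁻¹ * (t * m * t⁻¹) ∈ X0 := by
      have h3 := mul_mem (inv_mem hvm) h1
      have e2 : (v * m)⁻¹ * (v * (t * m * t⁻¹)) = m⁻¹ * (t * m * t⁻¹) := by group
      rwa [e2] at h3
    have h3 := hXN _ h2 (mul_mem (inv_mem hm) htm)
    have e3 : t * m * t⁻¹ * m⁻¹ = m⁻¹ * (t * m * t⁻¹) :=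
      (mem_centralizer_iff.1 (D.N_comm i htm) _ (inv_mem hm)).symm
    rw [e3]; exact h3
  have hcen : ∀ e ∈ normalizer (U i : Set G), ∀ m ∈ N, (∃ v ∈ U i, v * m ∈ X0) → ∀ t ∈ centralizer (U i : Set G),
      ∃ z ∈ Z i, t * (e * m * e⁻¹) * t⁻¹ * (e * m * e⁻¹)⁻¹ = e * z * e⁻¹ := by
    intro e he m hm hv t ht
    have ht' : e⁻¹ * t * e ∈ centralizer (U i : Set G) := by
      have h1 := NO3L.LemP.normalizer_le_normalizer_cent (U i) (inv_mem he)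
      have h2 := (mem_normalizer_iff.1 h1 t).1 ht
      rwa [inv_inv] at h2
    refine ⟨_, w0 m hm hv _ ht', by group⟩
  -- (w1)
  have w1 : ∀ j, i ≠ j → ∀ m ∈ N, (∃ v ∈ U i, v * m ∈ X0) → m ∈ QQ (Z j) := by
    intro j hij m hm hv
    have hQU : QQ (Z j) ≤ centralizer (U i : Set G) := comm_symm (D.half j i hij.symm).2
    refine D.O_inf_le j ⟨D.N_le_O i hm, ?_⟩
    refine D.lift hQ (D.N_eab j) (D.N_le_O j) (ex_N D hNO i j) hm fun b hb => ?_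
    have h1 := inv_mem (w0 m hm hv b (hQU (D.NQ j hb)))
    have e : (b * m * b⁻¹ * m⁻¹)⁻¹ = m * b * m⁻¹ * b⁻¹ := by group
    rwa [e] at h1
  have w1' : ∀ j, i ≠ j → ∀ e ∈ normalizer (U i : Set G), ∀ m ∈ N, (∃ v ∈ U i, v * m ∈ X0) →
      e * m * e⁻¹ ∈ QQ (Z j) := by
    intro j hij e he m hm hv
    obtain ⟨g, g1, g2, g3⟩ := tr' D hij he
    have hh1 : g⁻¹ * e ∈ normalizer (Z i : Set G) := by
      refine ChoiceBase.mem_normalizer_iff_cj.2 ?_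
      change MulAut.conj (g⁻¹ * e) • Z i = Z i
      rw [← conj_conj, ← g1, inv_conj_conj]
    have hh2 : g⁻¹ * e ∈ normalizer (U i : Set G) :=
      mul_mem (inv_mem (ChoiceBase.mem_normalizer_iff_cj.2 g3)) he
    obtain ⟨h1, h2⟩ := hNL _ hh1 hh2 m hm hv
    have h3 := w1 j hij _ h1 h2
    have h4 : MulAut.conj g • QQ (Z j) = QQ (Z j) := by rw [← QQ_conj, g2]
    rw [← h4, mem_conj]
    have e1 : g⁻¹ * (e * m * e⁻¹) * g = g⁻¹ * e * m * (g⁻¹ * e)⁻¹ := by group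
    rwa [e1]
  -- (w2)
  have ptE : ∀ e : G, IsPt Z (MulAut.conj e • Z i) := fun e => (D.pt i).conj e
  have w2 : ∀ e ∈ normalizer (U i : Set G), ∀ m ∈ N, (∃ v ∈ U i, v * m ∈ X0) →
      e * m * e⁻¹ ∈ QQ (Z i) ∧ e * m * e⁻¹ ∈ centralizer (XW Z U (Z i) : Set G) := by
    intro e he m hm hv
    by_cases hy : MulAut.conj e • Z i = Z i
    · have he' : e ∈ normalizer (Z i : Set G) := ChoiceBase.mem_normalizer_iff_cj.2 hy
      have h1 := (hNL e he' he m hm hv).1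
      exact ⟨D.NQ i h1, D.XW_comm i (N_le_XW D h1)⟩
    have hdis : ∀ x, x ∈ MulAut.conj e • Z i → x ∈ Z i → x = 1 := by
      intro x h1 h2
      by_contra h3
      exact hy (D.ti _ _ (ptE e) (D.pt i) x h1 h2 h3)
    obtain ⟨j, hij⟩ := fin_two_ex i
    have hw := w1' j hij e he m hm hv
    have hwO := D.Q_le_O j hw
    have hwN : e * m * e⁻¹ ∈ centralizer (N : Set G) := by
      refine mem_centralizer_iff.2 fun n hn => ?_
      have hnU : n ∈ centralizer (U i : Set G) := comm_symm hcUN hn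
      obtain ⟨z, hz, e1⟩ := hcen e he m hm hv n hnU
      have h1 : e * z * e⁻¹ ∈ MulAut.conj e • Z i := by
        rw [mem_conj]
        have e2 : e⁻¹ * (e * z * e⁻¹) * e = z := by group
        rwa [e2]
      have h2 : n * (e * m * e⁻¹) * n⁻¹ * (e * m * e⁻¹)⁻¹ ∈ N := by
        have h3 := hconjN _ (D.B_le_HH i (D.O_le_B hwO)) n⁻¹ (inv_mem hn)
        have e2 : n * (e * m * e⁻¹) * n⁻¹ * (e * m * e⁻¹)⁻¹ = n * (e * m * e⁻¹ * n⁻¹ * (e * m * e⁻¹)⁻¹) := by group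
        rw [e2]; exact mul_mem hn h3
      rw [e1] at h2
      have h3 : e * z * e⁻¹ ∈ U i := (mem_normalizer_iff.1 he z).1 (D.ZU' i hz)
      have h4 := hdis _ h1 (hlN _ h3 h2)
      rw [h4] at e1
      exact mul_inv_eq_iff_eq_mul.1 (mul_inv_eq_one.1 e1)
    have hwQ : e * m * e⁻¹ ∈ QQ (Z i) := D.O_inf_le i ⟨hwO, hwN⟩
    refine ⟨hwQ, mem_centralizer_iff.2 fun x hx => ?_⟩
    have hxU : x ∈ centralizer (U i : Set G) := centralizer_le (U_le_XW D) (D.XW_comm i hx)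
    obtain ⟨z, hz, e1⟩ := hcen e he m hm hv x hxU
    have h1 : e * z * e⁻¹ ∈ MulAut.conj e • Z i := by
      rw [mem_conj]
      have e2 : e⁻¹ * (e * z * e⁻¹) * e = z := by group
      rwa [e2]
    have h2 := D.xf.com (Z i) (D.pt i) x hx _ hwQ
    rw [e1] at h2
    have h4 := hdis _ h1 h2
    rw [h4] at e1
    exact mul_inv_eq_iff_eq_mul.1 (mul_inv_eq_one.1 e1)
  -- (w3)
  let S : Set G := (XW Z U (Z i) : Set G) ∪
    {x | ∃ h ∈ HH (Z i), ∃ e ∈ normalizer (U i : Set G), ∃ m ∈ N, (∃ v ∈ U i, v * m ∈ X0) ∧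
      x = h * (e * m * e⁻¹) * h⁻¹}
  have hcXW : ∀ g ∈ HH (Z i), ∀ w ∈ centralizer (XW Z U (Z i) : Set G),
      g * w * g⁻¹ ∈ centralizer (XW Z U (Z i) : Set G) := fun g hg w hw =>
    (mem_normalizer_iff.1 (NO3L.LemP.normalizer_le_normalizer_cent _ (HH_norm_XW D hg)) w).1 hw
  have hpair : ∀ f ∈ HH (Z i), ∀ e ∈ normalizer (U i : Set G), ∀ m ∈ N, (∃ v ∈ U i, v * m ∈ X0) →
      ∀ e' ∈ normalizer (U i : Set G), ∀ m' ∈ N, (∃ v ∈ U i, v * m' ∈ X0) →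
      (f * (e * m * e⁻¹) * f⁻¹) * (e' * m' * e'⁻¹) = (e' * m' * e'⁻¹) * (f * (e * m * e⁻¹) * f⁻¹) := by
    intro f hf e he m hm hv e' he' m' hm' hv'
    set w := e * m * e⁻¹ with hw
    set w' := e' * m' * e'⁻¹ with hw'
    have hwX := (w2 e he m hm hv).2
    have hwX' := (w2 e' he' m' hm' hv').2
    have hUX : centralizer (XW Z U (Z i) : Set G) ≤ centralizer (U i : Set G) := centralizer_le (U_le_XW D)
    have h1 := hUX (hcXW f hf w hwX)
    have h2 := hUX (hcXW f⁻¹ (inv_mem hf) w' hwX')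
    obtain ⟨z', hz', e1⟩ := hcen e' he' m' hm' hv' _ h1
    obtain ⟨z, hz, e2⟩ := hcen e he m hm hv _ h2
    rw [← hw'] at e1
    rw [← hw] at e2
    -- the commutator
    have h3 : f * w * f⁻¹ * w' * (f * w * f⁻¹)⁻¹ * w'⁻¹ = (f * e) * z⁻¹ * (f * e)⁻¹ := by
      calc f * w * f⁻¹ * w' * (f * w * f⁻¹)⁻¹ * w'⁻¹
          = f * ((f⁻¹ * w' * f⁻¹⁻¹) * w * (f⁻¹ * w' * f⁻¹⁻¹)⁻¹ * w⁻¹)⁻¹ * f⁻¹ := by group
        _ = f * (e * z * e⁻¹)⁻¹ * f⁻¹ := by rw [e2]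
        _ = _ := by group
    by_cases hc : f * w * f⁻¹ * w' * (f * w * f⁻¹)⁻¹ * w'⁻¹ = 1
    · exact mul_inv_eq_iff_eq_mul.1 (mul_inv_eq_one.1 hc)
    have h4 : f * w * f⁻¹ * w' * (f * w * f⁻¹)⁻¹ * w'⁻¹ ∈ MulAut.conj e' • Z i := by
      rw [e1, mem_conj]
      have e3 : e'⁻¹ * (e' * z' * e'⁻¹) * e' = z' := by group
      rwa [e3]
    have h5 : f * w * f⁻¹ * w' * (f * w * f⁻¹)⁻¹ * w'⁻¹ ∈ MulAut.conj (f * e) • Z i := by
      rw [h3, mem_conj]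
      have e3 : (f * e)⁻¹ * (f * e * z⁻¹ * (f * e)⁻¹) * (f * e) = z⁻¹ := by group
      rw [e3]; exact inv_mem hz
    have h6 := D.ti _ _ (ptE (f * e)) (ptE e') _ h5 h4 hc
    have h7 : w' ∈ NN Z (MulAut.conj e' • Z i) := by
      rw [NN_conj, mem_conj, hw']
      have e3 : e'⁻¹ * (e' * m' * e'⁻¹) * e' = m' := by group
      rwa [e3]
    have h8 : f * w * f⁻¹ ∈ NN Z (MulAut.conj e' • Z i) := by
      rw [← h6, NN_conj, mem_conj, hw]
      have e3 : (f * e)⁻¹ * (f * (e * m * e⁻¹) * f⁻¹) * (f * e) = m := by group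
      rwa [e3]
    exact (mem_centralizer_iff.1 (D.NN_comm (ptE e') h7) _ h8)
  have hSc : ∀ x ∈ S, ∀ y ∈ S, x * y = y * x := by
    rintro x (hx | ⟨h, hh, e, he, m, hm, hv, rfl⟩) y (hy | ⟨h', hh', e', he', m', hm', hv', rfl⟩)
    · exact mem_centralizer_iff.1 (D.XW_comm i hy) x hx
    · exact mem_centralizer_iff.1 (hcXW h' hh' _ (w2 e' he' m' hm' hv').2) x hx
    · exact (mem_centralizer_iff.1 (hcXW h hh _ (w2 e he m hm hv).2) y hy).symm
    · have h1 := hpair (h'⁻¹ * h) (mul_mem (inv_mem hh') hh) e he m hm hv e' he' m' hm' hv'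
      calc h * (e * m * e⁻¹) * h⁻¹ * (h' * (e' * m' * e'⁻¹) * h'⁻¹)
          = h' * ((h'⁻¹ * h) * (e * m * e⁻¹) * (h'⁻¹ * h)⁻¹ * (e' * m' * e'⁻¹)) * h'⁻¹ := by group
        _ = h' * ((e' * m' * e'⁻¹) * ((h'⁻¹ * h) * (e * m * e⁻¹) * (h'⁻¹ * h)⁻¹)) * h'⁻¹ := by rw [h1]
        _ = _ := by group
  have hSs : ∀ x ∈ S, x ^ 2 = 1 := by
    rintro x (hx | ⟨h, hh, e, he, m, hm, hv, rfl⟩)
    · exact (eab_iff.1 (D.XW_eab i)).2 x hx
    · have h1 := (eab_iff.1 hNe).2 m hm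
      have e1 : (h * (e * m * e⁻¹) * h⁻¹) ^ 2 = (h * e) * m ^ 2 * (h * e)⁻¹ := by
        rw [pow_two, pow_two]; group
      rw [e1, h1]; group
  have hSH : ∀ g ∈ HH (Z i), ∀ x ∈ S, g * x * g⁻¹ ∈ S := by
    rintro g hg x (hx | ⟨h, hh, e, he, m, hm, hv, rfl⟩)
    · exact Or.inl ((mem_normalizer_iff.1 (HH_norm_XW D hg) x).1 hx)
    · exact Or.inr ⟨g * h, mul_mem hg hh, e, he, m, hm, hv, by group⟩
  refine ⟨X0, closure S, hlN, hbX, hXN, hXl, hXex, hinv, closure_eab hSc hSs, ?_, ?_, closure_norm hSH, ?_, hcen, ?_,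
    w1'⟩
  · exact fun x hx => subset_closure (Or.inl hx)
  · refine (closure_le _).2 ?_
    rintro x (hx | ⟨h, hh, e, he, m, hm, hv, rfl⟩)
    · exact D.XW_le_Q i hx
    · exact (mem_normalizer_iff.1 (MinSimple.VModule.le_normalizer_o2 _ hh) _).1 (w2 e he m hm hv).1
  · intro e he m hm hv
    exact subset_closure (Or.inr ⟨1, one_mem _, e, he, m, hm, hv, by group⟩)
  · exact fun e he m hm hv => (w2 e he m hm hv).2

end

end Cfsg.Agent.Omega.TCQ.R.Can
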