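import Cfsg.Agent.Omega.NO3S.EThree.RtQ

/-!
# THEOREM N (#23328), step (5): the count

`cnt` : `l ≤ F`, `|l| = q²`, `[l, B] ≤ b` of order `q`; every `t ∈ S = C_B(l)` not centralising `F` gives a surjective
`B`-homomorphism `F → l`, `f ↦ [f, t]`; `|S : C_S(F)| ≤ q`. Then `B` contains no offender on `F`.
-/

set_option autoImplicit false
set_option linter.unusedSectionVars false

namespace Cfsg.Agent.Omega.TCQ.R.Cnt

open Subgroup Cfsg
open scoped Pointwise

universe u

variable {G : Type u} [Group G] [Finite G]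

theorem rpos (H K : Subgroup G) : 0 < H.relIndex K := Nat.pos_of_ne_zero index_ne_zero_of_finite

/-- the homomorphism `f ↦ [f, t]` -/
theorem card_comm {F l : Subgroup G} {t : G} (hFc : ∀ x ∈ F, ∀ y ∈ F, x * y = y * x) (hlF : l ≤ F)
    (h1 : ∀ f ∈ F, f * t * f⁻¹ * t⁻¹ ∈ l) (H : Subgroup G) (hH : H ≤ F) :
    ∃ M : Subgroup G, M ≤ l ∧ (∀ f ∈ H, f * t * f⁻¹ * t⁻¹ ∈ M) ∧ (∀ m ∈ M, ∃ f ∈ H, f * t * f⁻¹ * t⁻¹ = m) ∧
      Nat.card M * Nat.card ↥(H ⊓ centralizer ({t} : Set G)) = Nat.card H := by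
  let f : H →* G :=
    { toFun := fun x => x * t * (x : G)⁻¹ * t⁻¹
      map_one' := by simp
      map_mul' := fun x y => by
        have h2 := hFc _ (hH x.2) _ (hlF (h1 y (hH y.2)))
        change ((x : G) * y) * t * ((x : G) * y)⁻¹ * t⁻¹ = x * t * (x : G)⁻¹ * t⁻¹ * (y * t * (y : G)⁻¹ * t⁻¹)
        calc ((x : G) * y) * t * ((x : G) * y)⁻¹ * t⁻¹
            = (x : G) * (y * t * (y : G)⁻¹ * t⁻¹) * (t * (x : G)⁻¹ * t⁻¹) := by group
          _ = (y * t * (y : G)⁻¹ * t⁻¹) * (x : G) * (t * (x : G)⁻¹ * t⁻¹) := by rw [h2]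
          _ = (y * t * (y : G)⁻¹ * t⁻¹) * (x * t * (x : G)⁻¹ * t⁻¹) := by group
          _ = _ := hFc _ (hlF (h1 y (hH y.2))) _ (hlF (h1 x (hH x.2))) }
  refine ⟨f.range, ?_, fun x hx => ⟨⟨x, hx⟩, rfl⟩, ?_, ?_⟩
  · rintro _ ⟨x, rfl⟩
    exact h1 x (hH x.2)
  · rintro _ ⟨x, rfl⟩
    exact ⟨x, x.2, rfl⟩
  · have h2 := Subgroup.card_mul_index f.ker
    rw [Subgroup.index_ker] at h2
    have h3 : Nat.card f.ker = Nat.card ↥(H ⊓ centralizer ({t} : Set G)) := by
      refine Nat.card_congr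
        { toFun := fun x => ⟨x.1, x.1.2, ?_⟩
          invFun := fun x => ⟨⟨x.1, x.2.1⟩, ?_⟩
          left_inv := fun x => rfl
          right_inv := fun x => rfl }
      · have h4 : (x.1 : G) * t * (x.1 : G)⁻¹ * t⁻¹ = 1 := x.2
        refine mem_centralizer_singleton_iff.2 ?_
        exact mul_inv_eq_iff_eq_mul.1 (mul_inv_eq_one.1 h4)
      · have h4 := mem_centralizer_singleton_iff.1 x.2.2
        change (x.1 : G) * t * (x.1 : G)⁻¹ * t⁻¹ = 1
        rw [h4]; group
    rw [h3, mul_comm] at h2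
    exact h2

theorem card_relIndex (H F : Subgroup G) : H.relIndex F * Nat.card ↥(F ⊓ H) = Nat.card F := by
  have e := relIndex_inf_mul_relIndex (⊥ : Subgroup G) H F
  rw [relIndex_bot_left, bot_inf_eq, relIndex_bot_left, mul_comm, inf_comm] at e
  exact e

/-- **the count** -/
theorem cnt {B F l b : Subgroup G} {q : ℕ} (hq : 2 ≤ q) (cb : Nat.card b = q) (cl : Nat.card l = q ^ 2)
    (lF : l ≤ F) (hFc : ∀ x ∈ F, ∀ y ∈ F, x * y = y * x)
    (com : ∀ x ∈ B, ∀ v ∈ l, x * v * x⁻¹ * v⁻¹ ∈ b)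
    (free : ∀ x ∈ B, ∀ v ∈ l, v ∉ b → x * v = v * x → x ∈ centralizer (l : Set G))
    (hS : (centralizer (F : Set G)).relIndex (B ⊓ centralizer (l : Set G)) ≤ q)
    (hφ : ∀ t ∈ B, t ∈ centralizer (l : Set G) → t ∉ centralizer (F : Set G) →
      (∀ f ∈ F, f * t * f⁻¹ * t⁻¹ ∈ l) ∧ (∀ v ∈ l, ∃ f ∈ F, f * t * f⁻¹ * t⁻¹ = v) ∧
      (∀ x ∈ B, ∀ f ∈ F, x * f = f * x → x * (f * t * f⁻¹ * t⁻¹) = (f * t * f⁻¹ * t⁻¹) * x))
    (hex : ∃ t ∈ B, t ∈ centralizer (l : Set G) ∧ t ∉ centralizer (F : Set G))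
    (hmv : ¬ B ≤ centralizer (l : Set G)) {A : Subgroup G} (hA : A ≤ B) (hAF : ¬ A ≤ centralizer (F : Set G))
    (hoff : (centralizer (A : Set G)).relIndex F ≤ (centralizer (F : Set G)).relIndex A) : False := by
  have hq0 : 0 < q := by omega
  -- `C_l(x) ≤ b` for `x` moving `l`
  have hxl : ∀ x ∈ B, x ∉ centralizer (l : Set G) → l ⊓ centralizer ({x} : Set G) ≤ b := by
    rintro x hx hxc v ⟨hv, hvx⟩
    by_contra hvb
    exact hxc (free x hx v hv hvb (mem_centralizer_singleton_iff.1 hvx).symm)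
  -- `|B : S| ≤ q`
  have hBS : (centralizer (l : Set G)).relIndex B ≤ q := by
    obtain ⟨v, hv, hvb⟩ : ∃ v ∈ l, v ∉ b := by
      by_contra hcon
      push Not at hcon
      have h1 := Subgroup.card_le_of_le hcon
      rw [cl, cb] at h1
      nlinarith
    -- `B → b`, `x ↦ [x, v]`
    have h1 : Nat.card (B ⧸ (centralizer (l : Set G)).subgroupOf B) ≤ Nat.card b := by
      refine Nat.card_le_card_of_injective
        (fun x => ⟨(Quotient.out x : B) * v * ((Quotient.out x : B) : G)⁻¹ * v⁻¹, com _ (Quotient.out x).2 v hv⟩) ?_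
      intro x y hxy
      have h2 : ((Quotient.out x : B) : G) * v * ((Quotient.out x : B) : G)⁻¹ * v⁻¹ =
          ((Quotient.out y : B) : G) * v * ((Quotient.out y : B) : G)⁻¹ * v⁻¹ := congrArg Subtype.val hxy
      have h3 := mul_right_cancel h2
      set x' := Quotient.out x
      set y' := Quotient.out y
      have h4 : (x' : G)⁻¹ * y' ∈ centralizer (l : Set G) := by
        refine free _ (mul_mem (inv_mem x'.2) y'.2) v hv hvb ?_
        calc (x' : G)⁻¹ * y' * v = (x' : G)⁻¹ * (y' * v * (y' : G)⁻¹) * y' := by group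
          _ = (x' : G)⁻¹ * (x' * v * (x' : G)⁻¹) * y' := by rw [h3]
          _ = v * ((x' : G)⁻¹ * y') := by group
      have h5 : (QuotientGroup.mk x' : B ⧸ (centralizer (l : Set G)).subgroupOf B) = QuotientGroup.mk y' := by
        rw [QuotientGroup.eq, mem_subgroupOf]
        exact h4
      have h6 : (QuotientGroup.mk x' : B ⧸ (centralizer (l : Set G)).subgroupOf B) = x := Quotient.out_eq x
      have h7 : (QuotientGroup.mk y' : B ⧸ (centralizer (l : Set G)).subgroupOf B) = y := Quotient.out_eq y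
      rw [h6, h7] at h5
      exact h5
    rw [cb] at h1
    exact h1
  -- claim 1
  have c1 : ∀ t ∈ B, t ∈ centralizer (l : Set G) → t ∉ centralizer (F : Set G) →
      (centralizer ({t} : Set G)).relIndex F = q ^ 2 := by
    intro t ht htl htF
    obtain ⟨h1, h2, -⟩ := hφ t ht htl htF
    obtain ⟨M, hM, hM1, hM2, hM3⟩ := card_comm hFc lF h1 F le_rfl
    have h3 : M = l := le_antisymm hM fun v hv => by
      obtain ⟨f, hf, rfl⟩ := h2 v hv
      exact hM1 f hf
    rw [h3, cl] at hM3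
    have h4 := card_relIndex (centralizer ({t} : Set G)) F
    rw [← hM3] at h4
    exact Nat.eq_of_mul_eq_mul_right Nat.card_pos h4
  obtain ⟨t₀, ht₀, ht₀l, ht₀F⟩ := hex
  obtain ⟨g1, g2, g3⟩ := hφ t₀ ht₀ ht₀l ht₀F
  set K := F ⊓ centralizer ({t₀} : Set G) with hK
  have hlK : l ≤ K := le_inf lF fun v hv => by
    rw [mem_centralizer_singleton_iff]
    exact mem_centralizer_iff.1 ht₀l v hv
  -- `|K : C_K(x)| ≥ q` for `x` moving `l`
  have c3 : ∀ x ∈ B, x ∉ centralizer (l : Set G) → q * Nat.card ↥(K ⊓ centralizer ({x} : Set G)) ≤ Nat.card K := by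
    intro x hx hxc
    have h1 : q ≤ (centralizer ({x} : Set G)).relIndex l := by
      have h2 := card_relIndex (centralizer ({x} : Set G)) l
      have h3 := Subgroup.card_le_of_le (hxl x hx hxc)
      rw [cb] at h3
      rw [cl] at h2
      by_contra hcon
      push Not at hcon
      have h4 : 0 < Nat.card ↥(l ⊓ centralizer ({x} : Set G)) := Nat.card_pos
      nlinarith
    have h2 : (centralizer ({x} : Set G)).relIndex l ≤ (centralizer ({x} : Set G)).relIndex K :=
      Subgroup.relIndex_le_of_le_right hlK (rpos _ _).ne'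
    have h3 := card_relIndex (centralizer ({x} : Set G)) K
    rw [← h3]
    exact Nat.mul_le_mul_right _ (h1.trans h2)
  -- claim 2
  have c2 : ∀ x ∈ B, x ∉ centralizer (l : Set G) → q ^ 2 ≤ (centralizer ({x} : Set G)).relIndex F := by
    intro x hx hxc
    obtain ⟨M, hM, hM1, hM2, hM3⟩ := card_comm hFc lF g1 (F ⊓ centralizer ({x} : Set G)) inf_le_left
    have h3 : M ≤ b := by
      intro m hm
      obtain ⟨f, hf, rfl⟩ := hM2 m hm
      refine hxl x hx hxc (mem_inf.2 ⟨hM hm, ?_⟩)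
      rw [mem_centralizer_singleton_iff]
      exact (g3 x hx f hf.1 (mem_centralizer_singleton_iff.1 hf.2).symm).symm
    have h4 := Subgroup.card_le_of_le h3
    rw [cb] at h4
    have h5 : F ⊓ centralizer ({x} : Set G) ⊓ centralizer ({t₀} : Set G) = K ⊓ centralizer ({x} : Set G) := by
      rw [hK, inf_assoc, inf_assoc, inf_comm (centralizer ({x} : Set G))]
    rw [h5] at hM3
    have h6 := c3 x hx hxc
    have h7 : Nat.card F = q ^ 2 * Nat.card K := by
      have h8 := card_relIndex (centralizer ({t₀} : Set G)) F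
      rw [c1 t₀ ht₀ ht₀l ht₀F] at h8
      exact h8.symm
    have h9 := card_relIndex (centralizer ({x} : Set G)) F
    rw [← hM3, h7] at h9
    -- `r |M| |K ∩ C(x)| = q² |K|`, `|M| ≤ q`, `q |K ∩ C(x)| ≤ |K|`
    by_contra hcon
    push Not at hcon
    have h10 : 0 < Nat.card ↥(K ⊓ centralizer ({x} : Set G)) := Nat.card_pos
    have h11 : 0 < Nat.card K := Nat.card_pos
    set r := (centralizer ({x} : Set G)).relIndex F
    set kx := Nat.card ↥(K ⊓ centralizer ({x} : Set G))
    set k := Nat.card K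
    have h12 : r * (Nat.card M * kx) ≤ r * (q * kx) := Nat.mul_le_mul_left _ (Nat.mul_le_mul_right _ h4)
    have h13 : r * (q * kx) ≤ r * k := Nat.mul_le_mul_left _ h6
    have h14 : r * k < q ^ 2 * k := Nat.mul_lt_mul_of_pos_right hcon h11
    omega
  have call : ∀ x ∈ B, x ∉ centralizer (F : Set G) → q ^ 2 ≤ (centralizer ({x} : Set G)).relIndex F := by
    intro x hx hxF
    by_cases hxl' : x ∈ centralizer (l : Set G)
    · exact (c1 x hx hxl' hxF).ge
    · exact c2 x hx hxl'
  -- `|B : C_B(F)| ≤ q²`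
  have hBF : (centralizer (F : Set G)).relIndex B ≤ q ^ 2 := by
    have h1 := relIndex_mul_relIndex (B ⊓ centralizer (F : Set G)) (B ⊓ centralizer (l : Set G)) B
      (inf_le_inf_left _ (centralizer_le lF)) inf_le_left
    rw [inf_relIndex_left, inf_relIndex_left] at h1
    have h2 : (B ⊓ centralizer (F : Set G)).relIndex (B ⊓ centralizer (l : Set G)) =
        (centralizer (F : Set G)).relIndex (B ⊓ centralizer (l : Set G)) := by
      have h3 : B ⊓ centralizer (F : Set G) = (B ⊓ centralizer (l : Set G)) ⊓ centralizer (F : Set G) := by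
        apply le_antisymm
        · exact le_inf (inf_le_inf_left _ (centralizer_le lF)) inf_le_right
        · exact inf_le_inf_right _ inf_le_left
      rw [h3, inf_relIndex_left]
    rw [h2] at h1
    rw [← h1, pow_two]
    exact Nat.mul_le_mul hS hBS
  obtain ⟨a, ha, haF⟩ := SetLike.not_le_iff_exists.1 hAF
  have h1 : q ^ 2 ≤ (centralizer (A : Set G)).relIndex F := by
    refine (call a (hA ha) haF).trans ?_
    exact Subgroup.relIndex_le_of_le_left (centralizer_le (Set.singleton_subset_iff.2 ha)) (rpos _ _).ne'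
  have h2 : (centralizer (F : Set G)).relIndex A ≤ (centralizer (F : Set G)).relIndex B :=
    Subgroup.relIndex_le_of_le_right hA (rpos _ _).ne'
  -- equality: `B = A C_B(F)`
  have h3 : (centralizer (F : Set G)).relIndex A = (centralizer (F : Set G)).relIndex B := by omega
  have h4 : (centralizer (A : Set G)).relIndex F = q ^ 2 := by omega
  have h5 : ∀ x ∈ B, ∃ y ∈ A, y⁻¹ * x ∈ centralizer (F : Set G) := by
    -- the map `A / C_A(F) → B / C_B(F)` is bijective
    let φ : A ⧸ (centralizer (F : Set G)).subgroupOf A → B ⧸ (centralizer (F : Set G)).subgroupOf B :=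
      fun y => QuotientGroup.mk ⟨(Quotient.out y : A), hA (Quotient.out y).2⟩
    have hinj : Function.Injective φ := by
      intro y y' e
      have e1 := QuotientGroup.eq.1 e
      rw [mem_subgroupOf] at e1
      have e2 : (QuotientGroup.mk (Quotient.out y) : A ⧸ (centralizer (F : Set G)).subgroupOf A) =
          QuotientGroup.mk (Quotient.out y') := by
        rw [QuotientGroup.eq, mem_subgroupOf]
        exact e1
      have e3 : (QuotientGroup.mk (Quotient.out y) : A ⧸ (centralizer (F : Set G)).subgroupOf A) = y := Quotient.out_eq y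
      have e4 : (QuotientGroup.mk (Quotient.out y') : A ⧸ (centralizer (F : Set G)).subgroupOf A) = y' :=
        Quotient.out_eq y'
      rw [e3, e4] at e2
      exact e2
    have hbij : Function.Bijective φ :=
      (Nat.bijective_iff_injective_and_card φ).2 ⟨hinj, h3⟩
    intro x hx
    obtain ⟨y, hy⟩ := hbij.2 (QuotientGroup.mk ⟨x, hx⟩)
    have e1 := QuotientGroup.eq.1 hy
    rw [mem_subgroupOf] at e1
    exact ⟨(Quotient.out y : A), (Quotient.out y).2, e1⟩
  -- `C_F(A) ≤ C_F(B)`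
  have h6 : F ⊓ centralizer (A : Set G) ≤ centralizer (B : Set G) := by
    rintro f ⟨hf, hfA⟩
    rw [mem_centralizer_iff]
    intro x hx
    obtain ⟨y, hy, hyx⟩ := h5 x hx
    have h7 := mem_centralizer_iff.1 hfA y hy
    have h8 := mem_centralizer_iff.1 hyx f hf
    calc x * f = y * ((y⁻¹ * x) * f) := by group
      _ = y * (f * (y⁻¹ * x)) := by rw [h8]
      _ = (y * f) * (y⁻¹ * x) := by group
      _ = (f * y) * (y⁻¹ * x) := by rw [h7]
      _ = f * x := by group
  obtain ⟨x, hx, hxl'⟩ := SetLike.not_le_iff_exists.1 hmv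
  have h7 : F ⊓ centralizer (A : Set G) ≤ K ⊓ centralizer ({x} : Set G) := by
    refine le_inf (le_inf inf_le_left ?_) ?_
    · exact h6.trans (centralizer_le (Set.singleton_subset_iff.2 ht₀))
    · exact h6.trans (centralizer_le (Set.singleton_subset_iff.2 hx))
  have h8 := Subgroup.card_le_of_le h7
  have h9 := c3 x hx hxl'
  have h10 := card_relIndex (centralizer (A : Set G)) F
  rw [h4] at h10
  have h11 : Nat.card F = q ^ 2 * Nat.card K := by
    have h8 := card_relIndex (centralizer ({t₀} : Set G)) F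
    rw [c1 t₀ ht₀ ht₀l ht₀F] at h8
    exact h8.symm
  rw [h11] at h10
  have h12 := Nat.eq_of_mul_eq_mul_left (pow_pos hq0 2) h10
  have h13 : 0 < Nat.card ↥(K ⊓ centralizer ({x} : Set G)) := Nat.card_pos
  nlinarith

end Cfsg.Agent.Omega.TCQ.R.Cnt
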