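import Cfsg.Agent.Omega.TC.DOne

/-!
# Relative Gaschuetz: invariant complements

* `exists_proj` : `R` an `H`-submodule of the `F_2 H`-module `M`, `A` an `S`-invariant complement, `|H : S|` odd: there
  is an `H`-equivariant projection of `M` onto `R`;
* `exists_X` : the same in a section `E / b` of a group.
-/

set_option autoImplicit false
set_option linter.unusedSectionVars false

namespace Cfsg.Agent.Omega.TCQ.R

open Subgroup
open scoped Pointwise

universe u

theorem exists_proj {H : Type*} [Group H] [Finite H] {M : Type*} [AddCommGroup M] [DistribMulAction H M]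
    (h2 : ∀ m : M, m + m = 0) (S : Subgroup H) (hodd : Odd S.index) (R A : AddSubgroup M)
    (hR : ∀ h : H, ∀ r ∈ R, h • r ∈ R) (hA : ∀ s ∈ S, ∀ a ∈ A, s • a ∈ A) (h0 : ∀ m ∈ R, m ∈ A → m = 0)
    (hd : ∀ m : M, ∃ r ∈ R, m - r ∈ A) :
    ∃ π : M →+ M, (∀ m, π m ∈ R) ∧ (∀ r ∈ R, π r = r) ∧ ∀ (h : H) (m : M), π (h • m) = h • π m := by
  classical
  choose q hqR hqA using hd
  have huniq : ∀ m r, r ∈ R → m - r ∈ A → r = q m := by
    intro m r hr h
    have h1 : r - q m = 0 := by
      refine h0 _ (sub_mem hr (hqR m)) ?_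
      have e : r - q m = (m - q m) - (m - r) := by abel
      rw [e]
      exact sub_mem (hqA m) h
    exact sub_eq_zero.1 h1
  have hqadd : ∀ m n, q (m + n) = q m + q n := by
    intro m n
    refine (huniq _ _ (add_mem (hqR m) (hqR n)) ?_).symm
    have e : m + n - (q m + q n) = (m - q m) + (n - q n) := by abel
    rw [e]
    exact add_mem (hqA m) (hqA n)
  have hqR' : ∀ r ∈ R, q r = r := fun r hr => (huniq r r hr (by rw [sub_self]; exact zero_mem _)).symm
  have hqS : ∀ s ∈ S, ∀ m, q (s • m) = s • q m := by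
    intro s hs m
    refine (huniq _ _ (hR s _ (hqR m)) ?_).symm
    rw [← smul_sub]
    exact hA s hs _ (hqA m)
  let Q := H ⧸ S
  have : Fintype Q := Fintype.ofFinite Q
  let F : M → Q → M := fun m => Quotient.lift (fun a : H => a • q (a⁻¹ • m)) (by
    intro a b hab
    have hab' : a⁻¹ * b ∈ S := QuotientGroup.leftRel_apply.1 hab
    have h1 := hqS _ (inv_mem hab') (a⁻¹ • m)
    have e1 : (a⁻¹ * b)⁻¹ • a⁻¹ • m = b⁻¹ • m := by
      rw [smul_smul]; congr 1; group
    rw [e1] at h1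
    change a • q (a⁻¹ • m) = b • q (b⁻¹ • m)
    rw [h1, smul_smul]
    congr 1
    group)
  have hF : ∀ (m : M) (a : H), F m (QuotientGroup.mk a) = a • q (a⁻¹ • m) := fun m a => rfl
  have hFadd : ∀ (m n : M) (x : Q), F (m + n) x = F m x + F n x := by
    intro m n x
    induction x using QuotientGroup.induction_on with
    | H a => rw [hF, hF, hF, smul_add, hqadd, smul_add]
  have hcard : Odd (Fintype.card Q) := by
    rw [← Nat.card_eq_fintype_card]; exact hodd
  let P : M → M := fun m => ∑ x : Q, F m x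
  have hPadd : ∀ m n, P (m + n) = P m + P n := by
    intro m n
    change ∑ x : Q, F (m + n) x = (∑ x : Q, F m x) + ∑ x : Q, F n x
    rw [← Finset.sum_add_distrib]
    exact Finset.sum_congr rfl fun x _ => hFadd m n x
  refine ⟨AddMonoidHom.mk' P hPadd, fun m => ?_, fun r hr => ?_, fun h m => ?_⟩
  · refine AddSubgroup.sum_mem _ fun x _ => ?_
    induction x using QuotientGroup.induction_on with
    | H a => rw [hF]; exact hR a _ (hqR _)
  · have h1 : ∀ x : Q, F r x = r := by
      intro x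
      induction x using QuotientGroup.induction_on with
      | H a => rw [hF, hqR' _ (hR _ _ hr), smul_inv_smul]
    change ∑ x : Q, F r x = r
    rw [Finset.sum_congr rfl fun x _ => h1 x, Finset.sum_const, Finset.card_univ]
    obtain ⟨k, hk⟩ := hcard
    rw [hk, add_smul, mul_comm, mul_smul, two_smul, h2, smul_zero, zero_add, one_smul]
  · have h1 : ∀ x : Q, F (h • m) (h • x) = h • F m x := by
      intro x
      induction x using QuotientGroup.induction_on with
      | H a =>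
        change F (h • m) (QuotientGroup.mk (h * a)) = _
        rw [hF, hF, mul_inv_rev, mul_smul, mul_smul, inv_smul_smul]
    change ∑ x : Q, F (h • m) x = h • ∑ x : Q, F m x
    rw [Finset.smul_sum, ← Equiv.sum_comp (MulAction.toPerm h : Equiv.Perm Q)]
    exact Finset.sum_congr rfl fun x _ => h1 x

/-- **Relative Gaschuetz in a section.** `E` elementary abelian, `b ≤ N ∩ l`, `E = l N`, `l ∩ N = b`, `H` normalises
`E`, `N`, `b`, and a subgroup `T` of odd index of `H` normalises `l`: `N / b` has an `H`-invariant complement `X / b`. -/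
theorem exists_X {G : Type u} [Group G] [Finite G] {E N l b H T : Subgroup G}
    (hcomm : ∀ x ∈ E, ∀ y ∈ E, x * y = y * x) (hsq : ∀ x ∈ E, x ^ 2 = 1) (hbN : b ≤ N) (hNE : N ≤ E) (hlE : l ≤ E)
    (hinf : ∀ x ∈ l, x ∈ N → x ∈ b) (hE : ∀ x ∈ E, ∃ v ∈ l, ∃ n ∈ N, x = v * n)
    (hHE : H ≤ normalizer (E : Set G)) (hHN : H ≤ normalizer (N : Set G)) (hHb : H ≤ normalizer (b : Set G))
    (hTl : T ≤ normalizer (l : Set G)) (hodd : Odd (T.relIndex H)) :
    ∃ X : Subgroup G, b ≤ X ∧ (∀ x ∈ X, x ∈ N → x ∈ b) ∧ X ≤ E ∧ (∀ v ∈ l, ∃ n ∈ N, v * n ∈ X) ∧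
      H ≤ normalizer (X : Set G) := by
  have hbE := hbN.trans hNE
  obtain ⟨M, _, _, p, s⟩ := TC.DOne.exists_sec (E := E) (Z := b) (H := H)
    (fun x hx y hy => by rw [hcomm x hx y hy, mul_inv_cancel_right, mul_inv_cancel]; exact one_mem _)
    (fun e he => by
      rw [mem_normalizer_iff]
      intro x
      constructor
      · intro hx
        rw [hcomm e he x (hbE hx), mul_inv_cancel_right]; exact hx
      · intro hx
        have h1 := hcomm e he _ (hbE hx)
        have e1 : x = e⁻¹ * (e * x * e⁻¹) * e := by group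
        have h2 : e⁻¹ * (e * x * e⁻¹) * e = e * x * e⁻¹ := by
          rw [mul_assoc, ← h1]; group
        rw [e1, h2]; exact hx) hHE hHb
  have h2 : ∀ m : M, m + m = 0 := s.add_self fun x hx => by
    rw [← pow_two, hsq x hx]; exact one_mem _
  have hodd' : Odd (T.subgroupOf H).index := hodd
  obtain ⟨π, hπR, hπr, hπH⟩ := exists_proj (H := H) h2 (T.subgroupOf H) hodd' (s.im N hNE) (s.im l hlE)
    (by
      rintro h _ ⟨x, hx, rfl⟩
      refine ⟨h * x * (h : G)⁻¹, (mem_normalizer_iff.1 (hHN h.2) x).1 hx, ?_⟩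
      rw [s.act h _ (hNE hx)])
    (by
      rintro h hh _ ⟨x, hx, rfl⟩
      refine ⟨h * x * (h : G)⁻¹, (mem_normalizer_iff.1 (hTl hh) x).1 hx, ?_⟩
      rw [s.act h _ (hlE hx)])
    (by
      rintro _ ⟨x, hx, rfl⟩ ⟨y, hy, e⟩
      rw [s.ker _ (hNE hx)]
      rw [s.eq_iff (hlE hy) (hNE hx)] at e
      have h3 : y ∈ N := by
        have := mul_mem (hbN e) hx
        rwa [inv_mul_cancel_right] at this
      have h4 := hinf y hy h3
      have h5 := mul_mem (inv_mem e) h4
      have e2 : (y * x⁻¹)⁻¹ * y = x := by group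
      rwa [e2] at h5)
    (by
      intro m
      obtain ⟨x, hx, rfl⟩ := s.surj m
      obtain ⟨v, hv, n, hn, rfl⟩ := hE x hx
      refine ⟨p n, ⟨n, hn, rfl⟩, ⟨v, hv, ?_⟩⟩
      rw [s.mul _ (hlE hv) _ (hNE hn)]; abel)
  refine ⟨{ carrier := {x | x ∈ E ∧ π (p x) = 0}
            one_mem' := ⟨one_mem _, by rw [s.one, map_zero]⟩
            mul_mem' := by
              rintro x y ⟨hx, hx'⟩ ⟨hy, hy'⟩
              exact ⟨mul_mem hx hy, by rw [s.mul _ hx _ hy, map_add, hx', hy', add_zero]⟩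
            inv_mem' := by
              rintro x ⟨hx, hx'⟩
              exact ⟨inv_mem hx, by rw [s.inv hx, map_neg, hx', neg_zero]⟩ }, ?_, ?_, ?_, ?_, ?_⟩
  · intro x hx
    exact ⟨hbE hx, by rw [(s.ker _ (hbE hx)).2 hx, map_zero]⟩
  · rintro x ⟨hx, hx'⟩ hxN
    rw [hπr _ ⟨x, hxN, rfl⟩] at hx'
    exact (s.ker _ hx).1 hx'
  · exact fun x hx => hx.1
  · intro v hv
    obtain ⟨n, hn, e⟩ := hπR (p v)
    refine ⟨n⁻¹, inv_mem hn, mul_mem (hlE hv) (inv_mem (hNE hn)), ?_⟩
    rw [s.mul _ (hlE hv) _ (inv_mem (hNE hn)), s.inv (hNE hn), map_add, map_neg, e, hπr _ (hπR _), add_neg_cancel]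
  · intro h hh
    rw [mem_normalizer_iff]
    intro x
    have key : ∀ g ∈ H, ∀ x : G, x ∈ E ∧ π (p x) = 0 → g * x * g⁻¹ ∈ E ∧ π (p (g * x * g⁻¹)) = 0 := by
      rintro g hg x ⟨hx, hx'⟩
      refine ⟨(mem_normalizer_iff.1 (hHE hg) x).1 hx, ?_⟩
      have h3 := s.act ⟨g, hg⟩ x hx
      have h4 : p (g * x * g⁻¹) = (⟨g, hg⟩ : H) • p x := h3.symm
      rw [h4, hπH, hx', smul_zero]
    constructor
    · exact key h hh x
    · intro hx
      have h3 := key h⁻¹ (inv_mem hh) _ hx
      have e : h⁻¹ * (h * x * h⁻¹) * h⁻¹⁻¹ = x := by group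
      rwa [e] at h3

end Cfsg.Agent.Omega.TCQ.R
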