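import Cfsg.Agent.Omega.TCQ.R.Can

/-!
# THEOREM N (1b) over `FQ` in the form `(H)` (helper381 #23328, helper384 #24519)

`D : FQ Z U B q`, `A ∈ AA O` whose part `C_A(N_i)` centralises `X_i`; `W` elementary abelian, `X_i ≤ W ≤ Q_i`, normal
in `N(Z i)`.

* `XA` : `[X_i, A] ≤ N_i`; `A_cent`, `A_le` : `A ≤ C(Z i)`, `A ≤ N(Z i)`;
* `hyp` : `y ≤ X_i` a point, `y ∩ N_i = 1`, moved by `A`; `n ∈ W`, `[n, C(X_i)] ≤ y`: `[n, A] ≤ N_i`.
-/

set_option autoImplicit false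
set_option linter.unusedSectionVars false

namespace Cfsg.Agent.Omega.TCQ.R.HB

open Subgroup Cfsg Cfsg.Agent.ZN Cfsg.Agent.Omega.MinPar
open Cfsg.Agent.Omega.NoFF.Basic (conj_conj mem_conj conj_le_iff conj_le_centralizer comm_symm comm_mono)
open Cfsg.Agent.Omega.OM.PG
open Cfsg.Agent.Omega.OM.PG.Peel (XW)
open Cfsg.Agent.Omega.NO3S.EThree Cfsg.Agent.Omega.NO3S.EThree.FQ
open Cfsg.Agent.Omega.NO3S.EThree.ExactA (eab_iff eab_mono eab_sup)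
open Cfsg.Agent.Omega.TCQ.R.Can
open Cfsg.Agent.ZN.ChoiceBase (AA)
open scoped Pointwise commutatorElement

universe u

variable {G : Type u} [Group G]

/-- A vector `n` of `W` at a point `y` of `X_i`, `y ∩ N_i = 1`, with `[n, C(Z i) ∩ C(y)] ≤ y`. -/
structure Fv (Z U : Fin 2 → Subgroup G) (i : Fin 2) (W y : Subgroup G) (n : G) : Prop where
  pt : IsPt Z y
  yX : y ≤ XW Z U (Z i)
  yN : y ⊓ NN Z (Z i) = ⊥
  nW : n ∈ W
  hc : ∀ c ∈ centralizer (Z i : Set G), c ∈ centralizer (y : Set G) → n * c * n⁻¹ * c⁻¹ ∈ y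

variable [Finite G] {Z U : Fin 2 → Subgroup G} {B : Subgroup G} {q : ℕ} (D : FQ Z U B q) {i : Fin 2}
include D

theorem noOn (hNO : NoDQ Z) : EK3.Rank.NoOn (OO Z) (NN Z (Z i)) := fun A hA hAO => hNO i A hA hAO

theorem A_le {A : Subgroup G} (hA : A ≤ OO Z) : A ≤ normalizer (Z i : Set G) :=
  hA.trans (D.O_le_B.trans (D.B_le_HH i))

omit [Finite G] D in
theorem Z_le (i : Fin 2) : Z i ≤ Z 0 ⊔ Z 1 := by
  have h2 : ∀ a : Fin 2, a = 0 ∨ a = 1 := by decide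
  rcases h2 i with rfl | rfl
  · exact le_sup_left
  · exact le_sup_right

omit [Finite G] D in
theorem A_cent {A : Subgroup G} (hA : A ≤ OO Z) : A ≤ centralizer (Z i : Set G) :=
  hA.trans ((ChoiceSit.o2_le _).trans (centralizer_le (Z_le i)))

/-- `[X_i, A] ≤ N_i` -/
theorem XA (hNO : NoDQ Z) {A : Subgroup G} (hA : A ∈ AA (OO Z))
    (hAX : A ⊓ centralizer (NN Z (Z i) : Set G) ≤ centralizer (XW Z U (Z i) : Set G)) :
    ∀ x ∈ XW Z U (Z i), ∀ f ∈ A, x * f * x⁻¹ * f⁻¹ ∈ NN Z (Z i) := fun _ hx _ hf =>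
  EK3.ThN.comm_mem (D.N_eab i) (D.N_le_O i) (noOn D hNO) hA (D.XW_eab i)
    ((D.XW_le_Q i).trans (D.Q_le_O i)) (N_le_XW D) hAX ((A_le D hA.2.1).trans (D.HH_norm_N i)) hx hf

/-- **(H) for (1b)** = `Hyp Z U i W A` of `Plug.lean` (helper483), one pair `(y, n)` at a time. -/
theorem hyp (hNO : NoDQ Z) {A W : Subgroup G} (hA : A ∈ AA (OO Z))
    (hAX : A ⊓ centralizer (NN Z (Z i) : Set G) ≤ centralizer (XW Z U (Z i) : Set G))
    (hWe : IsElementaryAbelian 2 W) (hXW : XW Z U (Z i) ≤ W) (hWQ : W ≤ QQ (Z i))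
    (hHW : normalizer (Z i : Set G) ≤ normalizer (W : Set G)) :
    ∀ y : Subgroup G, IsPt Z y → y ≤ XW Z U (Z i) → y ⊓ NN Z (Z i) = ⊥ → ¬ A ≤ centralizer (y : Set G) →
      ∀ n ∈ W, (∀ c ∈ centralizer (XW Z U (Z i) : Set G), n * c * n⁻¹ * c⁻¹ ∈ y) →
        ∀ f ∈ A, n * f * n⁻¹ * f⁻¹ ∈ NN Z (Z i) := by
  intro y hy hyX hyN hmv n hn hc f hf
  have hXA := XA D (i := i) hNO hA hAX
  have hAH := A_le D (i := i) hA.2.1
  refine EK3.ThN.oneB (D.N_eab i) (D.N_le_O i) (noOn D hNO) hA (N_le_XW D) hXW hWe (hWQ.trans (D.Q_le_O i)) hAX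
    (hAH.trans (D.HH_norm_N i)) (hAH.trans hHW) hyX ?_ hyN hmv hn (fun c hc' => hc c (hAX hc')) hf
  -- `t.i.`
  intro a ha u hu hu1 hau
  have h1 : MulAut.conj a • y = y := by
    refine D.ti _ _ (hy.conj a) hy (a * u * a⁻¹) ?_ hau ?_
    · rw [mem_conj]
      have e : a⁻¹ * (a * u * a⁻¹) * a = u := by group
      rwa [e]
    · intro e
      exact hu1 (by simpa using e)
  rw [mem_centralizer_iff]
  intro v hv
  have h2 : v * a * v⁻¹ * a⁻¹ ∈ NN Z (Z i) := hXA v (hyX hv) a ha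
  have h3 : a * v⁻¹ * a⁻¹ ∈ y := by
    rw [← h1, mem_conj]
    have e : a⁻¹ * (a * v⁻¹ * a⁻¹) * a = v⁻¹ := by group
    rw [e]; exact inv_mem hv
  have h4 : v * a * v⁻¹ * a⁻¹ ∈ y := by
    have e : v * a * v⁻¹ * a⁻¹ = v * (a * v⁻¹ * a⁻¹) := by group
    rw [e]; exact mul_mem hv h3
  have h5 : v * a * v⁻¹ * a⁻¹ ∈ y ⊓ NN Z (Z i) := ⟨h4, h2⟩
  rw [hyN, mem_bot] at h5
  exact mul_inv_eq_iff_eq_mul.1 (mul_inv_eq_one.1 h5)

/-- `C(X_i) ≤ C(Z i) ∩ C(y)` -/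
theorem Fv.hcX {W y : Subgroup G} {n : G} (h : Fv Z U i W y n) :
    ∀ c ∈ centralizer (XW Z U (Z i) : Set G), n * c * n⁻¹ * c⁻¹ ∈ y := fun c hc =>
  h.hc c (centralizer_le ((D.ZU' i).trans (U_le_XW D)) hc) (centralizer_le h.yX hc)

/-- (H) for (1b) for `Fv`. -/
theorem hH (hNO : NoDQ Z) {A W : Subgroup G} (hA : A ∈ AA (OO Z))
    (hAX : A ⊓ centralizer (NN Z (Z i) : Set G) ≤ centralizer (XW Z U (Z i) : Set G))
    (hWe : IsElementaryAbelian 2 W) (hXW : XW Z U (Z i) ≤ W) (hWQ : W ≤ QQ (Z i))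
    (hHW : normalizer (Z i : Set G) ≤ normalizer (W : Set G)) {y : Subgroup G} {n : G} (hn : Fv Z U i W y n)
    (hmv : ¬ A ≤ centralizer (y : Set G)) : ∀ f ∈ A, n * f * n⁻¹ * f⁻¹ ∈ NN Z (Z i) :=
  hyp D hNO hA hAX hWe hXW hWQ hHW y hn.pt hn.yX hn.yN hmv n hn.nW (hn.hcX D)

omit [Finite G] in
/-- `Fv` is `N(Z i)`-invariant. -/
theorem Fv.conj {W y : Subgroup G} (hHW : normalizer (Z i : Set G) ≤ normalizer (W : Set G)) {g n : G}
    (hg : g ∈ normalizer (Z i : Set G)) (h : Fv Z U i W y n) : Fv Z U i W (MulAut.conj g • y) (g * n * g⁻¹) where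
  pt := h.pt.conj g
  yX := by
    have h1 := conj_le_iff (g := g) |>.2 h.yX
    have h2 : MulAut.conj g • XW Z U (Z i) = XW Z U (Z i) := NOThreeL.Pair.conj_eq_of_mem (HH_norm_XW D hg)
    rwa [h2] at h1
  yN := by
    have h2 : MulAut.conj g • NN Z (Z i) = NN Z (Z i) := NOThreeL.Pair.conj_eq_of_mem (D.HH_norm_N i hg)
    rw [← h2, ← Subgroup.smul_inf, h.yN, Subgroup.smul_bot]
  nW := (mem_normalizer_iff.1 (hHW hg) n).1 h.nW
  hc := by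
    intro c hc hcy
    rw [mem_conj]
    have h1 : g⁻¹ * c * g ∈ centralizer (Z i : Set G) := by
      have h2 : normalizer (Z i : Set G) ≤ normalizer (centralizer (Z i : Set G) : Set G) :=
        NO3L.LemP.normalizer_le_normalizer_cent _
      have h3 := (mem_normalizer_iff.1 (h2 (inv_mem hg)) c).1 hc
      rwa [inv_inv] at h3
    have h4 : g⁻¹ * c * g ∈ centralizer (y : Set G) := by
      rw [mem_centralizer_iff] at hcy ⊢
      intro v hv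
      have h5 := hcy (g * v * g⁻¹) (by
        rw [SetLike.mem_coe, mem_conj]
        have e : g⁻¹ * (g * v * g⁻¹) * g = v := by group
        rwa [e])
      calc v * (g⁻¹ * c * g) = g⁻¹ * ((g * v * g⁻¹) * c) * g := by group
        _ = g⁻¹ * (c * (g * v * g⁻¹)) * g := by rw [h5]
        _ = _ := by group
    have h6 := h.hc _ h1 h4
    have e : g⁻¹ * (g * n * g⁻¹ * c * (g * n * g⁻¹)⁻¹ * c⁻¹) * g = n * (g⁻¹ * c * g) * n⁻¹ * (g⁻¹ * c * g)⁻¹ := by group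
    rwa [e]

/-- **(H) for (1b), over 483's `Cp`.** -/
theorem hH_cp (hNO : NoDQ Z) {A W X0 : Subgroup G} (C : Cp Z U i X0 W) (hA : A ∈ AA (OO Z))
    (hAX : A ⊓ centralizer (NN Z (Z i) : Set G) ≤ centralizer (XW Z U (Z i) : Set G)) {y : Subgroup G} {n : G}
    (hn : Fv Z U i W y n) (hmv : ¬ A ≤ centralizer (y : Set G)) : ∀ f ∈ A, n * f * n⁻¹ * f⁻¹ ∈ NN Z (Z i) :=
  hH D hNO hA hAX C.We C.XWW C.WQ C.HW hn hmv

end Cfsg.Agent.Omega.TCQ.R.HB
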