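import Cfsg.Agent.Omega.OM.PG.Peel

/-!
# THEOREM N (helper381 #23328), end of (1): from the generators to `K`

`K = V A H = ⟨A^h : h ∈ H⟩`, `Fv y n` : "`n` is a canonical vector at the point `y`" (`H`-invariant), `y ≤ X`,
`[X, A] ≤ N`, `A ≤ C(b)`:

* `(c)` : `[n, c] ∈ y` for `c ∈ C(b) ∩ C(y)`;
* `(H)` : `[n, A] ≤ N` if `A` moves `y`.

`main` : **`n^s ∈ n y N` for all `s ∈ K`**; `mv` : the field `mv` of `NV`.
-/

set_option autoImplicit false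
set_option linter.unusedSectionVars false

namespace Cfsg.Agent.Omega.TCQ.R.MvH

open Subgroup Cfsg
open Cfsg.Agent.ZN Cfsg.Agent.Omega.OM.PG Cfsg.Agent.Omega.OM.PG.Peel
open Cfsg.Agent.Omega.NoFF.Basic (comm_symm conj_conj mem_conj conj_le_iff)
open scoped Pointwise

universe u

variable {G : Type u} [Group G]

/-- The data. -/
structure Dat (H b Np X A : Subgroup G) (Fv : Subgroup G → G → Prop) : Prop where
  AH : A ≤ H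
  Ab : A ≤ centralizer (b : Set G)
  HX : H ≤ normalizer (X : Set G)
  HN : H ≤ normalizer (Np : Set G)
  NX : Np ≤ X
  Xc : ∀ x ∈ X, ∀ y ∈ X, x * y = y * x
  XA : ∀ x ∈ X, ∀ f ∈ A, x * f * x⁻¹ * f⁻¹ ∈ Np
  inv : ∀ g ∈ H, ∀ y n, Fv y n → Fv (MulAut.conj g • y) (g * n * g⁻¹)
  yX : ∀ y n, Fv y n → y ≤ X
  nX : ∀ y n, Fv y n → ∀ x ∈ X, n * x = x * n
  hc : ∀ y n, Fv y n → ∀ c ∈ centralizer (b : Set G), c ∈ centralizer (y : Set G) → n * c * n⁻¹ * c⁻¹ ∈ y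
  hH : ∀ y n, Fv y n → ¬ A ≤ centralizer (y : Set G) → ∀ f ∈ A, n * f * n⁻¹ * f⁻¹ ∈ Np

namespace Dat

variable {H b Np X A : Subgroup G} {Fv : Subgroup G → G → Prop} (D : Dat H b Np X A Fv)
include D

/-- `[X, A^g] ≤ N` -/
theorem XAg {g : G} (hg : g ∈ H) {x f : G} (hx : x ∈ X) (hf : f ∈ MulAut.conj g • A) : x * f * x⁻¹ * f⁻¹ ∈ Np := by
  obtain ⟨f', hf', rfl⟩ := hf
  change x * (g * f' * g⁻¹) * x⁻¹ * (g * f' * g⁻¹)⁻¹ ∈ Np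
  have hx' : g⁻¹ * x * g ∈ X := by
    have := (mem_normalizer_iff.1 (D.HX (inv_mem hg)) x).1 hx
    rwa [inv_inv] at this
  have h1 := (mem_normalizer_iff.1 (D.HN hg) _).1 (D.XA _ hx' f' hf')
  have e : g * (g⁻¹ * x * g * f' * (g⁻¹ * x * g)⁻¹ * f'⁻¹) * g⁻¹ =
      x * (g * f' * g⁻¹) * x⁻¹ * (g * f' * g⁻¹)⁻¹ := by group
  rwa [e] at h1

/-- a generator on `n` -/
theorem gen {g : G} (hg : g ∈ H) {y : Subgroup G} {n : G} (h : Fv y n) {f : G} (hf : f ∈ MulAut.conj g • A) :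
    f * n * f⁻¹ * n⁻¹ ∈ y ⊔ Np := by
  obtain ⟨f', hf', rfl⟩ := hf
  change g * f' * g⁻¹ * n * (g * f' * g⁻¹)⁻¹ * n⁻¹ ∈ y ⊔ Np
  have h' := D.inv g⁻¹ (inv_mem hg) y n h
  rw [inv_inv] at h'
  have e : g * f' * g⁻¹ * n * (g * f' * g⁻¹)⁻¹ * n⁻¹ =
      g * ((g⁻¹ * n * g) * f' * (g⁻¹ * n * g)⁻¹ * f'⁻¹)⁻¹ * g⁻¹ := by group
  rw [e]
  by_cases hA : A ≤ centralizer ((MulAut.conj g⁻¹ • y : Subgroup G) : Set G)
  · have h1 := D.hc _ _ h' f' (D.Ab hf') (hA hf')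
    refine mem_sup_left ?_
    have h2 : g * ((g⁻¹ * n * g) * f' * (g⁻¹ * n * g)⁻¹ * f'⁻¹)⁻¹ * g⁻¹ ∈ MulAut.conj g • (MulAut.conj g⁻¹ • y) :=
      ⟨_, inv_mem h1, rfl⟩
    rwa [conj_inv_conj] at h2
  · have h1 := D.hH _ _ h' hA f' hf'
    exact mem_sup_right ((mem_normalizer_iff.1 (D.HN hg) _).1 (inv_mem h1))

/-- **`n^s ∈ n y N` for all `s ∈ K`.** -/
theorem main {y : Subgroup G} {n : G} (h : Fv y n) {s : G} (hs : s ∈ NoFF.Basic.V A H) :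
    s * n * s⁻¹ * n⁻¹ ∈ y ⊔ Np := by
  set M := y ⊔ Np with hM
  have hMX : M ≤ X := sup_le (D.yX y n h) D.NX
  have hNM : Np ≤ M := le_sup_right
  let St : Subgroup G :=
    { carrier := {s | s ∈ normalizer (M : Set G) ∧ s * n * s⁻¹ * n⁻¹ ∈ M}
      one_mem' := ⟨one_mem _, by simp⟩
      mul_mem' := by
        rintro s t ⟨h1, h2⟩ ⟨h3, h4⟩
        refine ⟨mul_mem h1 h3, ?_⟩
        have e : s * t * n * (s * t)⁻¹ * n⁻¹ = s * (t * n * t⁻¹ * n⁻¹) * s⁻¹ * (s * n * s⁻¹ * n⁻¹) := by group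
        rw [e]
        exact mul_mem ((mem_normalizer_iff.1 h1 _).1 h4) h2
      inv_mem' := by
        rintro s ⟨h1, h2⟩
        refine ⟨inv_mem h1, ?_⟩
        have h3 := (mem_normalizer_iff.1 (inv_mem h1) _).1 (inv_mem h2)
        have e : s⁻¹ * (s * n * s⁻¹ * n⁻¹)⁻¹ * s⁻¹⁻¹ = s⁻¹ * n * s⁻¹⁻¹ * n⁻¹ := by group
        rwa [e] at h3 }
  have key : NoFF.Basic.V A H ≤ St := by
    refine iSup_le ?_
    rintro ⟨g, hg⟩ f hf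
    have hn : ∀ f ∈ MulAut.conj g • A, ∀ x ∈ M, f * x * f⁻¹ ∈ M := by
      intro f hf x hx
      have h1 : (x⁻¹ * f * x⁻¹⁻¹ * f⁻¹)⁻¹ ∈ Np := inv_mem (D.XAg hg (inv_mem (hMX hx)) hf)
      have h2 : x⁻¹ * f * x⁻¹⁻¹ * f⁻¹ ∈ Np := D.XAg hg (inv_mem (hMX hx)) hf
      have e : f * x * f⁻¹ = x * (x⁻¹ * f * x⁻¹⁻¹ * f⁻¹) := by group
      rw [e]
      exact mul_mem hx (hNM h2)
    refine ⟨?_, D.gen hg h hf⟩
    rw [mem_normalizer_iff]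
    intro x
    refine ⟨hn f hf x, fun hx => ?_⟩
    have h1 := hn f⁻¹ (inv_mem hf) _ hx
    have e : f⁻¹ * (f * x * f⁻¹) * f⁻¹⁻¹ = x := by group
    rwa [e] at h1
  exact (key hs).2

/-- **The field `mv` of `NV`.** -/
theorem mv [Finite G] {e m s : G} (h : Fv (MulAut.conj e • b) (e * m * e⁻¹)) (hs : s ∈ NoFF.Basic.V A H) :
    ∃ u ∈ b, ∃ n ∈ Np, s * (e * m * e⁻¹) * s⁻¹ = (e * m * e⁻¹) * (e * u * e⁻¹) * n := by
  have hyX := D.yX _ _ h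
  have h1 := D.main h hs
  obtain ⟨v, hv, n, hn, e1⟩ := exists_mul_of_comm (V := MulAut.conj e • b) (D := Np)
    (fun x hx => mem_centralizer_iff.2 fun z hz => D.Xc z (D.NX hz) x (hyX hx)) h1
  obtain ⟨u, hu, rfl⟩ := hv
  refine ⟨u, hu, n, hn, ?_⟩
  change e * u * e⁻¹ * n = _ at e1
  have hX : e * u * e⁻¹ * n ∈ X := mul_mem (hyX ⟨u, hu, rfl⟩) (D.NX hn)
  calc s * (e * m * e⁻¹) * s⁻¹ = (s * (e * m * e⁻¹) * s⁻¹ * (e * m * e⁻¹)⁻¹) * (e * m * e⁻¹) := by group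
    _ = (e * u * e⁻¹ * n) * (e * m * e⁻¹) := by rw [e1]
    _ = (e * m * e⁻¹) * (e * u * e⁻¹ * n) := (D.nX _ _ h _ hX).symm
    _ = _ := by group

/-- `[x, s] ∈ N` for `x ∈ X`, `s ∈ K` (the field `Kl`). -/
theorem XK {x s : G} (hx : x ∈ X) (hs : s ∈ NoFF.Basic.V A H) : s * x * s⁻¹ * x⁻¹ ∈ Np := by
  let St : Subgroup G :=
    { carrier := {s | s ∈ H ∧ ∀ x ∈ X, s * x * s⁻¹ * x⁻¹ ∈ Np}
      one_mem' := ⟨one_mem _, fun x _ => by simp⟩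
      mul_mem' := by
        rintro s t ⟨h1, h2⟩ ⟨h3, h4⟩
        refine ⟨mul_mem h1 h3, fun x hx => ?_⟩
        have e : s * t * x * (s * t)⁻¹ * x⁻¹ = s * (t * x * t⁻¹ * x⁻¹) * s⁻¹ * (s * x * s⁻¹ * x⁻¹) := by group
        rw [e]
        exact mul_mem ((mem_normalizer_iff.1 (D.HN h1) _).1 (h4 x hx)) (h2 x hx)
      inv_mem' := by
        rintro s ⟨h1, h2⟩
        refine ⟨inv_mem h1, fun x hx => ?_⟩
        have h3 := (mem_normalizer_iff.1 (D.HN (inv_mem h1)) _).1 (inv_mem (h2 x hx))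
        have e : s⁻¹ * (s * x * s⁻¹ * x⁻¹)⁻¹ * s⁻¹⁻¹ = s⁻¹ * x * s⁻¹⁻¹ * x⁻¹ := by group
        rwa [e] at h3 }
  have key : NoFF.Basic.V A H ≤ St := by
    refine iSup_le ?_
    rintro ⟨g, hg⟩ f hf
    refine ⟨?_, fun x hx => ?_⟩
    · obtain ⟨f', hf', rfl⟩ := hf
      exact mul_mem (mul_mem hg (D.AH hf')) (inv_mem hg)
    · have h1 := inv_mem (D.XAg hg hx hf)
      have e : (x * f * x⁻¹ * f⁻¹)⁻¹ = f * x * f⁻¹ * x⁻¹ := by group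
      rwa [e] at h1
  exact (key hs).2 x hx

end Dat

end Cfsg.Agent.Omega.TCQ.R.MvH
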