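import Cfsg.Agent.Omega.OM.PG.Base

/-!
# (E): no canonical vectors (helper381, THEOREM N #23328), the abstract end: (2) - (5)

`NV E b l Np Zc W B S T C K X0 L' q` : the data of `(0)`, `(1)` (everything inside one group `G`):

* `b = Z_i`, `l = V_i`, `Np = N_b Z^j`, `Zc = Z^j` (`k = 2`: `Np = N_b`, `Zc = b`), `C = C_b`, `T` Sylow in `C`,
  `S = C_B(l)`, `W = X'_b` elementary abelian, `L' = L_j`; `E = N_G(l)` (`k = 2`);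
* `X0` : the canonical complement (`b ≤ X0 ≤ l Np`, `X0 ∩ Np = b`, `X0 Np = l Np`);
* `K` : normal in `C`, `[W, K] ≤ Np` on `l`; `mv` : `n^s ∈ n y Np` for `s ∈ K ∩ N(l)`, `n = n_y(v)`, `y ≠ b`.

`NV.false : NV … → False`.
-/

set_option autoImplicit false
set_option linter.unusedSectionVars false

namespace Cfsg.Agent.Omega.TCQ.R.ThN

open Subgroup Cfsg Cfsg.Agent.ZN
open Cfsg.Agent.ZN.ChoiceSit (Syl)

universe u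

variable {G : Type u} [Group G]

/-- The data of THEOREM N after (0) and (1). -/
structure NV (E b l Np Zc W B S T C K X0 L' : Subgroup G) (q : ℕ) : Prop where
  -- the point `b`, the line `l`
  q2 : 2 ≤ q
  cb : Nat.card b = q
  cl : Nat.card l = q ^ 2
  bl : b ≤ l
  bN : b ≤ Np
  lN : ∀ x ∈ l, x ∈ Np → x ∈ b
  -- `E` acts on `l` and its points (`E = N_G(l)` for `k = 2`)
  El : E ≤ normalizer (l : Set G)
  EX : E ⊓ normalizer (b : Set G) ≤ normalizer (X0 : Set G)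
  EN : E ⊓ normalizer (b : Set G) ≤ normalizer (Np : Set G)
  ti : ∀ e ∈ E, ∀ x ∈ b, x ≠ 1 → e * x * e⁻¹ ∈ b → e ∈ normalizer (b : Set G)
  cov : ∀ v ∈ l, v ≠ 1 → ∃ e ∈ E, ∃ x ∈ b, v = e * x * e⁻¹
  -- the points of `l` are permuted transitively by `E ∩ N(S)`
  pts : ∀ e ∈ E, ∃ g ∈ E, g ∈ normalizer (S : Set G) ∧ g⁻¹ * e ∈ normalizer (b : Set G)
  -- the canonical complement
  bX : b ≤ X0
  XN : ∀ x ∈ X0, x ∈ Np → x ∈ b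
  Xl : X0 ≤ l ⊔ Np
  Xex : ∀ v ∈ l, ∃ n ∈ Np, v * n ∈ X0
  -- the elementary abelian group `W = X'_b`
  Wc : ∀ x ∈ W, ∀ y ∈ W, x * y = y * x
  Wsq : ∀ x ∈ W, x ^ 2 = 1
  lW : l ≤ W
  NW : Np ≤ W
  WB : W ≤ B
  CW : C ≤ normalizer (W : Set G)
  MW : ∀ e ∈ E, ∀ m ∈ Np, (∃ v ∈ l, v * m ∈ X0) → e * m * e⁻¹ ∈ W
  -- `C = C_b`
  Cb : C ≤ centralizer (b : Set G)
  CN : C ≤ normalizer (Np : Set G)
  -- `B`, `S = C_B(l)`, `T`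
  BC : B ≤ C
  BE : B ≤ E
  Sm : ∀ x, x ∈ S ↔ x ∈ B ∧ x ∈ centralizer (l : Set G)
  com : ∀ x ∈ B, ∀ v ∈ l, x * v * x⁻¹ * v⁻¹ ∈ b
  free : ∀ x ∈ B, ∀ v ∈ l, v ∉ b → x * v = v * x → x ∈ centralizer (l : Set G)
  sylT : Syl T C
  Tl : T ≤ normalizer (l : Set G)
  -- `Om1 Z(S) ≤ l Z_J` and the action of `L_j`: `Zc` is central in `C`
  ZcN : Zc ≤ Np
  ZcC : Zc ≤ centralizer (C : Set G)
  L'C : L' ≤ C
  L'E : L' ≤ E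
  L'l : L' ≤ centralizer (l : Set G)
  zS : ∀ x ∈ S, x ^ 2 = 1 → (∀ t ∈ S, t * x = x * t) → (∀ g ∈ L', g * x * g⁻¹ * x⁻¹ ∈ b) → x ∈ l ⊔ Zc
  -- `K`
  KC : K ≤ C
  CK : C ≤ normalizer (K : Set G)
  Kl : ∀ s ∈ K, ∀ v ∈ l, s * v * s⁻¹ * v⁻¹ ∈ Np
  KE : K ⊓ normalizer (l : Set G) ≤ E
  KX : K ≤ normalizer (X0 : Set G)
  mv : ∀ s ∈ K, s ∈ normalizer (l : Set G) → ∀ e ∈ E, e ∉ normalizer (b : Set G) →
    ∀ m ∈ Np, (∃ v ∈ l, v * m ∈ X0) →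
      ∃ u ∈ b, ∃ n ∈ Np, s * (e * m * e⁻¹) * s⁻¹ = (e * m * e⁻¹) * (e * u * e⁻¹) * n
  done : ¬ K ≤ normalizer (l : Set G)
  -- the full root group of `l` at `b`, once `K ∩ N(l)` moves `l`
  root : (∃ s ∈ K, s ∈ normalizer (l : Set G) ∧ s ∉ centralizer (l : Set G)) →
    ∀ v ∈ l, v ∉ b → ∀ z ∈ b, ∃ s ∈ K, s ∈ normalizer (l : Set G) ∧ s * v * s⁻¹ * v⁻¹ = z
  -- `(V!)` (only for `F ≤ W`)
  off : ∀ F ≤ W, B ≤ normalizer (F : Set G) → (∀ x ∈ F, ∀ y ∈ F, x * y = y * x) → (∀ x ∈ F, x ^ 2 = 1) →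
    l ≤ F → ∃ A ≤ B, ¬ A ≤ centralizer (F : Set G) ∧
      (centralizer (A : Set G)).relIndex F ≤ (centralizer (F : Set G)).relIndex A

end Cfsg.Agent.Omega.TCQ.R.ThN
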