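import Cfsg.Agent.Omega.TCQ.R.Can
import Cfsg.Agent.Omega.TCQ.R.NV

/-!
# THEOREM N, `k = 2`, all `q`: from the hypothesis (H) to the structure `NV` (helper381 #23328, #23934)

`D : FQ Z U B q`, `A ≤ C(Z i)`, `[X_i, A] ≤ N_i`, `K = ⟨A^{N(Z i)}⟩`.

* `Hyp Z U i W A` : (H) of #23328 (1);
* `LvIn Z U B` : the level inputs (Sylow, (hZO), LEMMA 0 + STEP F, full root groups, (V!));
* `mv_of_H` : `n^s ∈ n y N_i` for `s ∈ K`, `n = n_y(v)`;
* `nv_of` : the structure `NV`.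
-/

set_option autoImplicit false
set_option linter.unusedSectionVars false

namespace Cfsg.Agent.Omega.TCQ.R.Plug

open Subgroup Cfsg Cfsg.Agent.ZN Cfsg.Agent.Omega.MinPar
open Cfsg.Agent.Omega.NoFF.Basic (conj_conj mem_conj conj_le_iff conj_le_centralizer comm_symm comm_mono V Z_le_V V_le)
open Cfsg.Agent.Omega.NOThreeL.Pair (conj_eq_of_mem)
open Cfsg.Agent.Omega.OM.PG
open Cfsg.Agent.Omega.OM.PG.Peel (XW)
open Cfsg.Agent.Omega.NO3S.EThree Cfsg.Agent.Omega.NO3S.EThree.FQ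
open Cfsg.Agent.Omega.NO3S.EThree.ExactA (eab_iff eab_mono eab_sup)
open Cfsg.Agent.Omega.TCQ.R.Can Cfsg.Agent.Omega.TCQ.R.ThN
open Cfsg.Agent.ZN.ChoiceSit (Syl)
open scoped Pointwise

universe u

variable {G : Type u} [Group G]

/-- **(H)**: `A` moves the point `y`, `y ∩ N_i = 1`; `n ∈ W`, `[n, C(X_i)] ≤ y` : `[n, A] ≤ N_i`. -/
def Hyp (Z U : Fin 2 → Subgroup G) (i : Fin 2) (W A : Subgroup G) : Prop :=
  ∀ y, IsPt Z y → y ≤ XW Z U (Z i) → y ⊓ NN Z (Z i) = ⊥ → ¬ A ≤ centralizer (y : Set G) → ∀ n ∈ W,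
    (∀ c ∈ centralizer (XW Z U (Z i) : Set G), n * c * n⁻¹ * c⁻¹ ∈ y) → ∀ f ∈ A, n * f * n⁻¹ * f⁻¹ ∈ NN Z (Z i)

/-- **The level inputs of THEOREM N.** -/
structure LvIn (Z U : Fin 2 → Subgroup G) (B : Subgroup G) : Prop where
  syl : ∀ i, ∃ T : Subgroup G, Syl T (normalizer (Z i : Set G)) ∧ T ≤ normalizer (U i : Set G)
  zS : ∀ i, ∀ x ∈ B ⊓ centralizer (U i : Set G), x ^ 2 = 1 → (∀ t ∈ B ⊓ centralizer (U i : Set G), t * x = x * t) →
    (∀ g ∈ centralizer (U i : Set G), g * x * g⁻¹ * x⁻¹ ∈ Z i) → x ∈ U i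
  /-- LEMMA 0 + STEP F -/
  done : ∀ i, ∀ K : Subgroup G, K ≤ centralizer (Z i : Set G) → normalizer (Z i : Set G) ≤ normalizer (K : Set G) →
    (∃ x ∈ K, IsPGroup 2 (zpowers x) ∧ x ∉ centralizer (NN Z (Z i) : Set G)) → ¬ K ≤ normalizer (U i : Set G)
  root : ∀ i, ∀ K : Subgroup G, K ≤ centralizer (Z i : Set G) → normalizer (Z i : Set G) ≤ normalizer (K : Set G) →
    (∃ s ∈ K, s ∈ normalizer (U i : Set G) ∧ s ∉ centralizer (U i : Set G)) →
    ∀ v ∈ U i, v ∉ Z i → ∀ z ∈ Z i, ∃ s ∈ K, s ∈ normalizer (U i : Set G) ∧ s * v * s⁻¹ * v⁻¹ = z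
  /-- `(V!)`, only for `F ≤ O₂(C_G(Z_J))` -/
  off : ∀ i, ∀ F ≤ OO Z, B ≤ normalizer (F : Set G) → (∀ x ∈ F, ∀ y ∈ F, x * y = y * x) → (∀ x ∈ F, x ^ 2 = 1) →
    U i ≤ F → ∃ A ≤ B, ¬ A ≤ centralizer (F : Set G) ∧
      (centralizer (A : Set G)).relIndex F ≤ (centralizer (F : Set G)).relIndex A
  cov : ∀ i, ∀ v ∈ U i, ∃ e ∈ normalizer (U i : Set G), ∃ x ∈ Z i, v = e * x * e⁻¹
  pts : ∀ i, ∀ e ∈ normalizer (U i : Set G), ∃ g ∈ normalizer (U i : Set G),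
    g ∈ normalizer ((B ⊓ centralizer (U i : Set G) : Subgroup G) : Set G) ∧ g⁻¹ * e ∈ normalizer (Z i : Set G)

theorem V_norm (A P : Subgroup G) : P ≤ normalizer (V A P : Set G) := by
  intro g hg
  refine ChoiceBase.mem_normalizer_iff_cj.2 ?_
  change MulAut.conj g • V A P = V A P
  have h1 := NoFF.Basic.conj_V_mul (Z := A) (P := P) (g := 1) (p := g) hg
  rw [one_mul] at h1
  rw [h1, map_one, one_smul]

theorem le_V (A P : Subgroup G) : A ≤ V A P := by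
  have h1 := Z_le_V (Z := A) (P := P) (p := 1) (one_mem _)
  rwa [map_one, one_smul] at h1

section

variable {Z U : Fin 2 → Subgroup G} {B : Subgroup G} {q : ℕ} (D : FQ Z U B q) {i : Fin 2}
include D

/-- `K ≤ C(Z i)` -/
theorem K_cent {A : Subgroup G} (hAc : A ≤ centralizer (Z i : Set G)) :
    V A (normalizer (Z i : Set G)) ≤ centralizer (Z i : Set G) := by
  refine V_le fun p hp => ?_
  have h1 := conj_le_centralizer (g := p) hAc
  rwa [conj_eq_of_mem hp] at h1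

/-- `[X_i, A^g] ≤ N_i` -/
theorem conj_AX {A : Subgroup G} (hAX : ∀ x ∈ XW Z U (Z i), ∀ f ∈ A, x * f * x⁻¹ * f⁻¹ ∈ NN Z (Z i)) {g : G}
    (hg : g ∈ normalizer (Z i : Set G)) {t : G} (ht : t ∈ MulAut.conj g • A) {x : G} (hx : x ∈ XW Z U (Z i)) :
    x * t * x⁻¹ * t⁻¹ ∈ NN Z (Z i) := by
  rw [mem_conj] at ht
  have hx' : g⁻¹ * x * g ∈ XW Z U (Z i) := by
    have h1 := (mem_normalizer_iff.1 (HH_norm_XW D (i := i) (inv_mem hg)) x).1 hx
    rwa [inv_inv] at h1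
  have h2 := (mem_normalizer_iff.1 (D.HH_norm_N i hg) _).1 (hAX _ hx' _ ht)
  have e : g * (g⁻¹ * x * g * (g⁻¹ * t * g) * (g⁻¹ * x * g)⁻¹ * (g⁻¹ * t * g)⁻¹) * g⁻¹ = x * t * x⁻¹ * t⁻¹ := by group
  rwa [e] at h2

/-- `[X_i, K] ≤ N_i` -/
theorem K_X {A : Subgroup G} (hAc : A ≤ centralizer (Z i : Set G))
    (hAX : ∀ x ∈ XW Z U (Z i), ∀ f ∈ A, x * f * x⁻¹ * f⁻¹ ∈ NN Z (Z i)) {s : G}
    (hs : s ∈ V A (normalizer (Z i : Set G))) : s ∈ HH (Z i) ∧ ∀ x ∈ XW Z U (Z i), s * x * s⁻¹ * x⁻¹ ∈ NN Z (Z i) := by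
  let R : Subgroup G :=
    { carrier := {s | s ∈ HH (Z i) ∧ ∀ x ∈ XW Z U (Z i), s * x * s⁻¹ * x⁻¹ ∈ NN Z (Z i)}
      one_mem' := ⟨one_mem _, fun x _ => by
        have e : (1 : G) * x * 1⁻¹ * x⁻¹ = 1 := by group
        rw [e]; exact one_mem _⟩
      mul_mem' := by
        rintro s t ⟨h1, h2⟩ ⟨h3, h4⟩
        refine ⟨mul_mem h1 h3, fun x hx => ?_⟩
        have h5 := (mem_normalizer_iff.1 (D.HH_norm_N i h1) _).1 (h4 x hx)
        have e : s * t * x * (s * t)⁻¹ * x⁻¹ = s * (t * x * t⁻¹ * x⁻¹) * s⁻¹ * (s * x * s⁻¹ * x⁻¹) := by group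
        rw [e]; exact mul_mem h5 (h2 x hx)
      inv_mem' := by
        rintro s ⟨h1, h2⟩
        refine ⟨inv_mem h1, fun x hx => ?_⟩
        have h5 := (mem_normalizer_iff.1 (D.HH_norm_N i (inv_mem h1)) _).1 (inv_mem (h2 x hx))
        have e : s⁻¹ * (s * x * s⁻¹ * x⁻¹)⁻¹ * s⁻¹⁻¹ = s⁻¹ * x * s⁻¹⁻¹ * x⁻¹ := by group
        rwa [e] at h5 }
  have hle : V A (normalizer (Z i : Set G)) ≤ R := by
    refine V_le fun g hg => fun t ht => ?_
    have htc : t ∈ centralizer (Z i : Set G) := K_cent D hAc (Z_le_V hg ht)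
    refine ⟨centralizer_le_normalizer _ htc, fun x hx => ?_⟩
    have h1 := inv_mem (conj_AX D hAX hg ht hx)
    have e : (x * t * x⁻¹ * t⁻¹)⁻¹ = t * x * t⁻¹ * x⁻¹ := by group
    rwa [e] at h1
  exact hle hs

theorem q2 [Finite G] : 2 ≤ q := by
  rw [← D.cardZ 0]
  exact (Subgroup.one_lt_card_iff_ne_bot _).2 D.ne

variable [Finite G]

/-- **(1)**: `n^s ∈ n y N_i`. -/
theorem mv_of_H {X0 W A : Subgroup G} (c : Cp Z U i X0 W) (hAc : A ≤ centralizer (Z i : Set G))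
    (hAX : ∀ x ∈ XW Z U (Z i), ∀ f ∈ A, x * f * x⁻¹ * f⁻¹ ∈ NN Z (Z i)) (hH : Hyp Z U i W A) {s : G}
    (hs : s ∈ V A (normalizer (Z i : Set G))) {e : G} (he : e ∈ normalizer (U i : Set G))
    (he' : e ∉ normalizer (Z i : Set G)) {m : G} (hm : m ∈ NN Z (Z i)) (hv : ∃ v ∈ U i, v * m ∈ X0) :
    ∃ u ∈ Z i, ∃ n ∈ NN Z (Z i), s * (e * m * e⁻¹) * s⁻¹ = (e * m * e⁻¹) * (e * u * e⁻¹) * n := by
  set N := NN Z (Z i) with hN
  set n := e * m * e⁻¹ with hn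
  have hWc := (eab_iff.1 c.We).1
  have hnW : n ∈ W := c.MW e he m hm hv
  have hNW : N ≤ W := (N_le_XW D).trans c.XWW
  have hUW : U i ≤ W := (U_le_XW D).trans c.XWW
  set y : Subgroup G := MulAut.conj e • Z i with hy
  have hyU : y ≤ U i := by
    have h2 := conj_le_iff (g := e) |>.2 (D.ZU' i)
    rwa [conj_eq_of_mem he] at h2
  have hyX : y ≤ XW Z U (Z i) := hyU.trans (U_le_XW D)
  have hyne : y ≠ Z i := fun h => he' (ChoiceBase.mem_normalizer_iff_cj.2 h)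
  have hpt : IsPt Z y := (D.pt i).conj e
  have hyb : y ⊓ Z i = ⊥ := by
    rw [eq_bot_iff]
    intro x hx
    by_contra hx1
    exact hyne (D.ti _ _ hpt (D.pt i) x hx.1 hx.2 hx1)
  have hyN : y ⊓ N = ⊥ := by
    rw [eq_bot_iff, ← hyb]
    exact fun x hx => ⟨hx.1, c.lN x (hyU hx.1) hx.2⟩
  set Y : Subgroup G := y ⊔ N with hY
  have hYX : Y ≤ XW Z U (Z i) := sup_le hyX (N_le_XW D)
  -- the subgroup
  let R : Subgroup G :=
    { carrier := {s | s ∈ normalizer (Y : Set G) ∧ s * n * s⁻¹ * n⁻¹ ∈ Y}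
      one_mem' := ⟨one_mem _, by
        have e1 : (1 : G) * n * 1⁻¹ * n⁻¹ = 1 := by group
        rw [e1]; exact one_mem _⟩
      mul_mem' := by
        rintro s t ⟨h1, h2⟩ ⟨h3, h4⟩
        refine ⟨mul_mem h1 h3, ?_⟩
        have h5 := (mem_normalizer_iff.1 h1 _).1 h4
        have e1 : s * t * n * (s * t)⁻¹ * n⁻¹ = s * (t * n * t⁻¹ * n⁻¹) * s⁻¹ * (s * n * s⁻¹ * n⁻¹) := by group
        rw [e1]; exact mul_mem h5 h2
      inv_mem' := by
        rintro s ⟨h1, h2⟩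
        refine ⟨inv_mem h1, ?_⟩
        have h5 := (mem_normalizer_iff.1 (inv_mem h1) _).1 (inv_mem h2)
        have e1 : s⁻¹ * (s * n * s⁻¹ * n⁻¹)⁻¹ * s⁻¹⁻¹ = s⁻¹ * n * s⁻¹⁻¹ * n⁻¹ := by group
        rwa [e1] at h5 }
  have hle : V A (normalizer (Z i : Set G)) ≤ R := by
    refine V_le fun g hg => fun t ht => ?_
    have hYt : ∀ t ∈ MulAut.conj g • A, ∀ w ∈ Y, t * w * t⁻¹ ∈ Y := by
      intro t ht w hw
      have h1 := (K_X D hAc hAX (Z_le_V hg ht)).2 w (hYX hw)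
      have h2 := mul_mem ((le_sup_right : N ≤ Y) h1) hw
      rwa [inv_mul_cancel_right] at h2
    refine ⟨?_, ?_⟩
    · rw [mem_normalizer_iff]
      intro w
      refine ⟨hYt t ht w, fun hw => ?_⟩
      have h2 := hYt t⁻¹ (inv_mem ht) _ hw
      have e1 : t⁻¹ * (t * w * t⁻¹) * t⁻¹⁻¹ = w := by group
      rwa [e1] at h2
    have hgi := inv_mem hg
    by_cases hA : A ≤ centralizer ((MulAut.conj g⁻¹ • y : Subgroup G) : Set G)
    · -- `A^g` centralises `y` and `Z i`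
      have h1 := conj_le_centralizer (g := g) hA
      rw [conj_inv_conj] at h1
      have htU : t ∈ centralizer (U i : Set G) := by
        have h2 := D.sup_eq (i := i) (l := e) (conj_eq_of_mem he) hyb
        rw [← h2]
        have h3 : U i ≤ centralizer ((zpowers t : Subgroup G) : Set G) := by
          rw [← h2]
          refine sup_le (comm_symm ?_) (comm_symm ?_)
          · exact zpowers_le.2 (K_cent D hAc (Z_le_V hg ht))
          · exact zpowers_le.2 (h1 ht)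
        rw [h2]
        exact comm_symm h3 (mem_zpowers t)
      obtain ⟨z, hz, e1⟩ := c.cen e he m hm hv t htU
      have h3 : e * z * e⁻¹ ∈ y := by
        rw [hy, mem_conj]
        have e2 : e⁻¹ * (e * z * e⁻¹) * e = z := by group
        rwa [e2]
      rw [← e1] at h3
      exact (le_sup_left : y ≤ Y) h3
    · -- (H)
      have h1 : MulAut.conj g⁻¹ • y ≤ XW Z U (Z i) := by
        have h2 := conj_le_iff (g := g⁻¹) |>.2 hyX
        rwa [conj_eq_of_mem (HH_norm_XW D (i := i) hgi)] at h2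
      have h2 : MulAut.conj g⁻¹ • y ⊓ N = ⊥ := by
        have h3 : MulAut.conj g⁻¹ • N = N := conj_eq_of_mem (D.HH_norm_N i hgi)
        rw [← h3, ← Subgroup.smul_inf, hyN]
        simp
      have h3 : g⁻¹ * n * g ∈ W := by
        have h4 := (mem_normalizer_iff.1 (c.HW hgi) n).1 hnW
        rwa [inv_inv] at h4
      have h4 : ∀ a ∈ centralizer (XW Z U (Z i) : Set G),
          (g⁻¹ * n * g) * a * (g⁻¹ * n * g)⁻¹ * a⁻¹ ∈ MulAut.conj g⁻¹ • y := by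
        intro a ha
        have h5 := (mem_normalizer_iff.1
          (NO3L.LemP.normalizer_le_normalizer_cent _ (HH_norm_XW D (i := i) hg)) a).1 ha
        have h6 : g * a * g⁻¹ ∈ centralizer (U i : Set G) := centralizer_le (U_le_XW D) h5
        obtain ⟨z, hz, e1⟩ := c.cen e he m hm hv _ h6
        rw [← hn] at e1
        have h7 : (g * a * g⁻¹ * n * (g * a * g⁻¹)⁻¹ * n⁻¹)⁻¹ ∈ y := by
          rw [e1, hy]
          refine inv_mem ?_
          rw [mem_conj]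
          have e2 : e⁻¹ * (e * z * e⁻¹) * e = z := by group
          rwa [e2]
        rw [mem_conj]
        have e2 : g⁻¹⁻¹ * (g⁻¹ * n * g * a * (g⁻¹ * n * g)⁻¹ * a⁻¹) * g⁻¹ =
            (g * a * g⁻¹ * n * (g * a * g⁻¹)⁻¹ * n⁻¹)⁻¹ := by group
        rwa [e2]
      rw [mem_conj] at ht
      have h5 := hH _ (hpt.conj g⁻¹) h1 h2 hA _ h3 h4 _ ht
      have h6 := (mem_normalizer_iff.1 (D.HH_norm_N i hg) _).1 (inv_mem h5)
      have e1 : g * (g⁻¹ * n * g * (g⁻¹ * t * g) * (g⁻¹ * n * g)⁻¹ * (g⁻¹ * t * g)⁻¹)⁻¹ * g⁻¹ = t * n * t⁻¹ * n⁻¹ := by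
        group
      rw [e1] at h6
      exact (le_sup_right : N ≤ Y) h6
  obtain ⟨-, h1⟩ := hle hs
  have hyc : N ≤ normalizer (y : Set G) := by
    intro x hx
    refine centralizer_le_normalizer _ (mem_centralizer_iff.2 fun w hw => ?_)
    exact mem_centralizer_iff.1 (hWc (hNW hx)) w (hUW (hyU hw))
  obtain ⟨w, hw, n0, hn0, e1⟩ := OM.KTwo.exists_mul_of_mem_sup hyc h1
  rw [hy, mem_conj] at hw
  refine ⟨_, hw, n0, hn0, ?_⟩
  have h2 : w * n0 ∈ W := mul_mem (hUW (hyU (by rw [hy, mem_conj]; exact hw))) (hNW hn0)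
  have h3 : s * n * s⁻¹ = w * n0 * n := by rw [← e1]; group
  rw [h3, (mem_centralizer_iff.1 (hWc h2) n hnW).symm]
  group

/-- **The structure `NV`.** -/
theorem nv_of (hL : LvIn Z U B) (hrad : Z i ≤ NN Z (Z i)) {X0 W A T : Subgroup G} (c : Cp Z U i X0 W)
    (hT : Syl T (normalizer (Z i : Set G))) (hTU : T ≤ normalizer (U i : Set G))
    (hA2 : IsPGroup 2 A) (hAc : A ≤ centralizer (Z i : Set G))
    (hAX : ∀ x ∈ XW Z U (Z i), ∀ f ∈ A, x * f * x⁻¹ * f⁻¹ ∈ NN Z (Z i))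
    (hmv : ¬ A ≤ centralizer (NN Z (Z i) : Set G)) (hH : Hyp Z U i W A) :
    NV (normalizer (U i : Set G)) (Z i) (U i) (NN Z (Z i)) (Z i) W B (B ⊓ centralizer (U i : Set G))
      (T ⊓ centralizer (Z i : Set G)) (centralizer (Z i : Set G)) (V A (normalizer (Z i : Set G))) X0
      (centralizer (U i : Set G)) q where
  q2 := q2 D
  cb := D.cardZ i
  cl := D.cardU i
  bl := D.ZU' i
  bN := hrad
  lN := c.lN
  El := le_rfl
  EX := fun g hg => c.inv ⟨hg.2, mem_hat D hg.2 hg.1⟩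
  EN := inf_le_right.trans (D.HH_norm_N i)
  ti := fun e _ x hx hx1 h => by
    refine ChoiceBase.mem_normalizer_iff_cj.2 ?_
    refine D.ti _ _ ((D.pt i).conj e) (D.pt i) _ ?_ h ?_
    · change _ ∈ MulAut.conj e • Z i
      rw [mem_conj]
      have e2 : e⁻¹ * (e * x * e⁻¹) * e = x := by group
      rwa [e2]
    · intro h1
      apply hx1
      have e2 : x = e⁻¹ * (e * x * e⁻¹) * e := by group
      rw [e2, h1]; group
  cov := fun v hv _ => hL.cov i v hv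
  pts := hL.pts i
  bX := c.bX
  XN := c.XN
  Xl := c.Xl
  Xex := c.Xex
  Wc := fun x hx y hy => mem_centralizer_iff.1 ((eab_iff.1 c.We).1 hy) x hx
  Wsq := (eab_iff.1 c.We).2
  lW := (U_le_XW D).trans c.XWW
  NW := (N_le_XW D).trans c.XWW
  WB := c.WQ.trans ((D.Q_le_O i).trans D.O_le_B)
  CW := (centralizer_le_normalizer _).trans c.HW
  MW := c.MW
  Cb := le_rfl
  CN := (centralizer_le_normalizer _).trans (D.HH_norm_N i)
  BC := D.B_le.trans (D.D_le_cent i)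
  BE := D.B_le_NU i
  Sm := fun x => Iff.rfl
  com := D.com i
  free := D.free i
  sylT := IId.KOne.syl_inf hT (centralizer_le_normalizer _) fun h hh n hn =>
    (mem_normalizer_iff.1 (NO3L.LemP.normalizer_le_normalizer_cent _ hh) n).1 hn
  Tl := inf_le_left.trans hTU
  ZcN := hrad
  ZcC := Subgroup.le_centralizer_iff.1 le_rfl
  L'C := centralizer_le (D.ZU' i)
  L'E := centralizer_le_normalizer _
  L'l := le_rfl
  zS := fun x hx h1 h2 h3 => (le_sup_left : U i ≤ _) (hL.zS i x hx h1 h2 h3)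
  KC := K_cent D hAc
  CK := (centralizer_le_normalizer _).trans (V_norm A _)
  Kl := fun s hs v hv => (K_X D hAc hAX hs).2 v (U_le_XW D hv)
  KE := inf_le_right
  KX := by
    intro s hs
    obtain ⟨h1, h2⟩ := K_X D hAc hAX hs
    have key : ∀ s ∈ V A (normalizer (Z i : Set G)), ∀ w ∈ U i ⊔ NN Z (Z i), s * w * s⁻¹ ∈ U i ⊔ NN Z (Z i) := by
      intro s hs w hw
      have h3 := (K_X D hAc hAX hs).2 w (sup_le (U_le_XW D) (N_le_XW D) hw)
      have h4 := mul_mem ((le_sup_right : NN Z (Z i) ≤ U i ⊔ NN Z (Z i)) h3) hw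
      rwa [inv_mul_cancel_right] at h4
    refine c.inv (Subgroup.mem_inf.2 ⟨h1, ?_⟩)
    rw [mem_normalizer_iff]
    intro w
    refine ⟨key s hs w, fun hw => ?_⟩
    have h3 := key s⁻¹ (inv_mem hs) _ hw
    have e1 : s⁻¹ * (s * w * s⁻¹) * s⁻¹⁻¹ = w := by group
    rwa [e1] at h3
  mv := fun s hs _ e he he' m hm hv => mv_of_H D c hAc hAX hH hs he he' hm hv
  done := by
    refine hL.done i _ (K_cent D hAc) (V_norm A _) ?_
    by_contra hcon
    push Not at hcon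
    apply hmv
    intro a ha
    refine hcon a (le_V A _ ha) ?_
    exact hA2.to_le (zpowers_le.2 ha)
  root := hL.root i _ (K_cent D hAc) (V_norm A _)
  off := fun F hF => hL.off i F (hF.trans (c.WQ.trans (D.Q_le_O i)))

end

end Cfsg.Agent.Omega.TCQ.R.Plug
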