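import Cfsg.Agent.Omega.TCQ.R.NV

/-!
# THEOREM N, (2): tools and the odd orbit product; `K ∩ N(l)` moves `l`
-/

set_option autoImplicit false
set_option linter.unusedSectionVars false

namespace Cfsg.Agent.Omega.TCQ.R.ThN

open Subgroup Cfsg Cfsg.Agent.ZN
open Cfsg.Agent.ZN.ChoiceSit (Syl exists_syl syl_conj syl_not_dvd)
open Cfsg.Agent.ZN.ChoiceBase (cj card_cj)

universe u

variable {G : Type u} [Group G]

/-! ### tools -/

theorem nm {H : Subgroup G} {g x : G} (hg : g ∈ normalizer (H : Set G)) (hx : x ∈ H) : g * x * g⁻¹ ∈ H :=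
  (mem_normalizer_iff.1 hg x).1 hx

theorem nm' {H : Subgroup G} {g x : G} (hg : g ∈ normalizer (H : Set G)) (hx : x ∈ H) : g⁻¹ * x * g ∈ H := by
  have := nm (inv_mem hg) hx
  rwa [inv_inv] at this

theorem norm_of [Finite G] {H : Subgroup G} {g : G} (h : ∀ x ∈ H, g * x * g⁻¹ ∈ H) :
    g ∈ normalizer (H : Set G) := by
  have hinj : Function.Injective (fun x : H => (⟨g * x * g⁻¹, h x x.2⟩ : H)) := by
    intro x y hxy
    have h1 : g * (x : G) * g⁻¹ = g * (y : G) * g⁻¹ := congrArg Subtype.val hxy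
    exact Subtype.ext (mul_left_cancel (mul_right_cancel h1))
  have hsur := Finite.surjective_of_injective hinj
  rw [mem_normalizer_iff]
  intro x
  refine ⟨h x, fun hx => ?_⟩
  obtain ⟨y, hy⟩ := hsur ⟨g * x * g⁻¹, hx⟩
  have h1 : g * (y : G) * g⁻¹ = g * x * g⁻¹ := congrArg Subtype.val hy
  have h2 : (y : G) = x := mul_left_cancel (mul_right_cancel h1)
  exact h2 ▸ y.2

theorem cm {H : Subgroup G} {g x : G} (hg : g ∈ centralizer (H : Set G)) (hx : x ∈ H) : g * x * g⁻¹ = x := by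
  rw [← mem_centralizer_iff.1 hg x hx, mul_inv_cancel_right]

theorem cm' {H : Subgroup G} {g x : G} (hg : g ∈ centralizer (H : Set G)) (hx : x ∈ H) : g * x = x * g :=
  (mem_centralizer_iff.1 hg x hx).symm

theorem cn {H : Subgroup G} {g : G} (hg : g ∈ centralizer (H : Set G)) : g ∈ normalizer (H : Set G) :=
  centralizer_le_normalizer _ hg

theorem nc {H : Subgroup G} {g c : G} (hg : g ∈ normalizer (H : Set G)) (hc : c ∈ centralizer (H : Set G)) :
    g * c * g⁻¹ ∈ centralizer (H : Set G) := by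
  refine mem_centralizer_iff.2 fun x hx => ?_
  have h1 := mem_centralizer_iff.1 hc _ (nm' hg hx)
  calc x * (g * c * g⁻¹) = g * ((g⁻¹ * x * g) * c) * g⁻¹ := by group
    _ = g * (c * (g⁻¹ * x * g)) * g⁻¹ := by rw [h1]
    _ = g * c * g⁻¹ * x := by group

theorem nc' {H : Subgroup G} {g c : G} (hg : g ∈ normalizer (H : Set G)) (hc : c ∈ centralizer (H : Set G)) :
    g⁻¹ * c * g ∈ centralizer (H : Set G) := by
  have := nc (inv_mem hg) hc
  rwa [inv_inv] at this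

/-- `[t, f]` -/
abbrev ct (t f : G) : G := t * f * t⁻¹ * f⁻¹

theorem ct_eq_one {t f : G} : ct t f = 1 ↔ t * f = f * t := by
  constructor
  · intro h
    have h1 : t * f = (t * f * t⁻¹ * f⁻¹) * (f * t) := by group
    rw [h1]
    change ct t f * (f * t) = f * t
    rw [h, one_mul]
  · intro h
    change t * f * t⁻¹ * f⁻¹ = 1
    rw [h]; group

theorem ct_mem {W : Subgroup G} {t x : G} (ht : t ∈ normalizer (W : Set G)) (hx : x ∈ W) : ct t x ∈ W :=
  mul_mem (nm ht hx) (inv_mem hx)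

theorem ct_mul {W : Subgroup G} (Wc : ∀ x ∈ W, ∀ y ∈ W, x * y = y * x) {t x y : G}
    (ht : t ∈ normalizer (W : Set G)) (hx : x ∈ W) (hy : y ∈ W) : ct t (x * y) = ct t x * ct t y := by
  have h2 := Wc _ (ct_mem ht hy) _ (inv_mem hx)
  calc t * (x * y) * t⁻¹ * (x * y)⁻¹ = (t * x * t⁻¹) * ((t * y * t⁻¹ * y⁻¹) * x⁻¹) := by group
    _ = (t * x * t⁻¹) * (x⁻¹ * (t * y * t⁻¹ * y⁻¹)) := by rw [h2]
    _ = t * x * t⁻¹ * x⁻¹ * (t * y * t⁻¹ * y⁻¹) := by group

theorem relIndex_le_card [Finite G] {H S X : Subgroup G} (f : G → G) (hf : ∀ t ∈ S, f t ∈ X)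
    (hi : ∀ t ∈ S, ∀ t' ∈ S, f t = f t' → t⁻¹ * t' ∈ H) : H.relIndex S ≤ Nat.card X := by
  have e : H.relIndex S = Nat.card (S ⧸ H.subgroupOf S) := rfl
  rw [e]
  refine Nat.card_le_card_of_injective (fun c => (⟨f (Quotient.out c : S), hf _ (Quotient.out c : S).2⟩ : X)) ?_
  intro c d hcd
  have h1 : f (Quotient.out c : S) = f (Quotient.out d : S) := congrArg Subtype.val hcd
  have h2 := hi _ (Quotient.out c : S).2 _ (Quotient.out d : S).2 h1
  rw [← Quotient.out_eq c, ← Quotient.out_eq d]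
  exact QuotientGroup.eq.2 (mem_subgroupOf.2 h2)

/-- `f ↦ [t, f]` -/
def phi {W F : Subgroup G} (Wc : ∀ x ∈ W, ∀ y ∈ W, x * y = y * x) (hF : F ≤ W) {t : G}
    (ht : t ∈ normalizer (W : Set G)) : F →* G :=
  MonoidHom.mk' (fun f => ct t f) fun x y => ct_mul Wc ht (hF x.2) (hF y.2)

theorem rel_eq [Finite G] {W F : Subgroup G} (Wc : ∀ x ∈ W, ∀ y ∈ W, x * y = y * x) (hF : F ≤ W) {t : G}
    (ht : t ∈ normalizer (W : Set G)) :
    (centralizer ({t} : Set G)).relIndex F = Nat.card (phi Wc hF ht).range := by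
  rw [← index_ker]
  have : (centralizer ({t} : Set G)).subgroupOf F = (phi Wc hF ht).ker := by
    ext f
    rw [mem_subgroupOf, mem_centralizer_singleton_iff, MonoidHom.mem_ker]
    change _ ↔ ct t f = 1
    rw [ct_eq_one]
    exact eq_comm
  change ((centralizer ({t} : Set G)).subgroupOf F).index = _
  rw [this]

theorem syl_inf [Finite G] {T H N : Subgroup G} (hT : Syl T H) (hN : N ≤ H)
    (hn : H ≤ normalizer (N : Set G)) : Syl (T ⊓ N) N := by
  refine ⟨inf_le_right, hT.2.1.to_le inf_le_left, ?_⟩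
  intro R hR h2 hTR
  obtain ⟨S, hS, hRS⟩ := exists_syl h2 (hR.trans hN)
  obtain ⟨x, hx, e⟩ := syl_conj hS hT
  have h1 : cj x R ≤ T ⊓ N := by
    rintro _ ⟨r, hr, rfl⟩
    refine ⟨?_, nm (hn hx) (hR hr)⟩
    rw [← e]
    exact ⟨r, hRS hr, rfl⟩
  have h3 := Subgroup.card_le_of_le h1
  rw [card_cj] at h3
  exact (Subgroup.eq_of_le_of_card_ge hTR h3).symm

theorem mem_sup_comm {X Y : Subgroup G} (h : ∀ x ∈ X, ∀ y ∈ Y, x * y = y * x) {u : G} (hu : u ∈ X ⊔ Y) :
    ∃ x ∈ X, ∃ y ∈ Y, x * y = u := by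
  let Z : Subgroup G :=
    { carrier := {u | ∃ x ∈ X, ∃ y ∈ Y, x * y = u}
      mul_mem' := by
        rintro _ _ ⟨x, hx, y, hy, rfl⟩ ⟨x', hx', y', hy', rfl⟩
        refine ⟨x * x', mul_mem hx hx', y * y', mul_mem hy hy', ?_⟩
        calc x * x' * (y * y') = x * (x' * y) * y' := by group
          _ = x * (y * x') * y' := by rw [h x' hx' y hy]
          _ = _ := by group
      one_mem' := ⟨1, one_mem _, 1, one_mem _, mul_one 1⟩
      inv_mem' := by
        rintro _ ⟨x, hx, y, hy, rfl⟩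
        exact ⟨x⁻¹, inv_mem hx, y⁻¹, inv_mem hy, by rw [mul_inv_rev, h _ (inv_mem hx) _ (inv_mem hy)]⟩ }
  have h1 : X ⊔ Y ≤ Z := sup_le (fun x hx => ⟨x, hx, 1, one_mem _, mul_one x⟩)
    fun y hy => ⟨1, one_mem _, y, hy, one_mul y⟩
  exact h1 hu

/-- orbit = index of the stabiliser -/
theorem card_range_eq {K' X : Type*} [Group K'] (H : Subgroup K') (f : K' → X)
    (hf : ∀ k k', f k = f k' ↔ k⁻¹ * k' ∈ H) : Nat.card (Set.range f) = H.index := by
  have e : H.index = Nat.card (K' ⧸ H) := rfl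
  rw [e]
  refine Nat.card_congr (Equiv.ofBijective (fun c : Set.range f => (QuotientGroup.mk (c.2.choose) : K' ⧸ H)) ⟨?_, ?_⟩)
  · intro c d hcd
    have h1 := QuotientGroup.eq.1 hcd
    have h2 := (hf _ _).2 h1
    rw [c.2.choose_spec, d.2.choose_spec] at h2
    exact Subtype.ext h2
  · intro x
    obtain ⟨k, rfl⟩ := QuotientGroup.mk_surjective x
    refine ⟨⟨f k, k, rfl⟩, QuotientGroup.eq.2 ((hf _ _).1 ?_)⟩
    exact (⟨k, rfl⟩ : ∃ y, f y = f k).choose_spec

/-- **The odd orbit product.** -/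
theorem odd_orbit [Finite G] {W K N : Subgroup G} (Wc : ∀ x ∈ W, ∀ y ∈ W, x * y = y * x)
    (KW : K ≤ normalizer (W : Set G)) {a : G} (ha : a ∈ W) (ha2 : a ^ 2 = 1)
    (hK : ∀ k ∈ K, k * a * k⁻¹ * a⁻¹ ∈ N) (hodd : ¬ 2 ∣ (K ⊓ centralizer ({a} : Set G)).relIndex K) :
    ∃ τ ∈ W, τ * a⁻¹ ∈ N ∧ (∀ k ∈ K, k * τ * k⁻¹ = τ) ∧
      ∀ g, g ∈ normalizer (W : Set G) → g ∈ normalizer (K : Set G) → g * a = a * g → g * τ * g⁻¹ = τ := by
  classical
  let _ : CommGroup W := { (inferInstance : Group W) with mul_comm := fun x y => Subtype.ext (Wc x x.2 y y.2) }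
  have hfin : Set.Finite {x : W | ∃ k ∈ K, (x : G) = k * a * k⁻¹} := Set.toFinite _
  let s : Finset W := hfin.toFinset
  have hs : ∀ x : W, x ∈ s ↔ ∃ k ∈ K, (x : G) = k * a * k⁻¹ := fun x => Set.Finite.mem_toFinset _
  let τ : W := ∏ x ∈ s, x
  -- the cardinality
  have hcard : s.card = (K ⊓ centralizer ({a} : Set G)).relIndex K := by
    have h1 := card_range_eq ((K ⊓ centralizer ({a} : Set G)).subgroupOf K)
      (fun k : K => (⟨k * a * (k : G)⁻¹, nm (KW k.2) ha⟩ : W)) (by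
        intro k k'
        rw [mem_subgroupOf, mem_inf, mem_centralizer_singleton_iff]
        constructor
        · intro h
          have h1 : (k : G) * a * (k : G)⁻¹ = (k' : G) * a * (k' : G)⁻¹ := congrArg Subtype.val h
          refine ⟨(k⁻¹ * k').2, ?_⟩
          push_cast
          symm
          calc a * ((k : G)⁻¹ * k') = (k : G)⁻¹ * ((k : G) * a * (k : G)⁻¹) * k' := by group
            _ = (k : G)⁻¹ * ((k' : G) * a * (k' : G)⁻¹) * k' := by rw [h1]
            _ = (k : G)⁻¹ * k' * a := by group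
        · rintro ⟨-, h⟩
          push_cast at h
          refine Subtype.ext ?_
          change (k : G) * a * (k : G)⁻¹ = (k' : G) * a * (k' : G)⁻¹
          calc (k : G) * a * (k : G)⁻¹ = (k : G) * (a * ((k : G)⁻¹ * k')) * (k' : G)⁻¹ := by group
            _ = (k : G) * ((k : G)⁻¹ * k' * a) * (k' : G)⁻¹ := by rw [h]
            _ = (k' : G) * a * (k' : G)⁻¹ := by group)
    have h2 : (K ⊓ centralizer ({a} : Set G)).relIndex K = ((K ⊓ centralizer ({a} : Set G)).subgroupOf K).index := rfl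
    rw [h2, ← h1, Nat.card_coe_set_eq, ← Set.ncard_eq_toFinset_card _ hfin]
    congr 1
    ext x
    constructor
    · rintro ⟨k, hk, e⟩
      exact ⟨⟨k, hk⟩, Subtype.ext e.symm⟩
    · rintro ⟨k, rfl⟩
      exact ⟨k, k.2, rfl⟩
  -- invariance
  have hinv : ∀ g (hg : g ∈ normalizer (W : Set G)), (∀ x : W, x ∈ s → (⟨g * x * g⁻¹, nm hg x.2⟩ : W) ∈ s) →
      g * (τ : G) * g⁻¹ = τ := by
    intro g hg h
    let ψ : W →* W := MonoidHom.mk' (fun x => ⟨g * x * g⁻¹, nm hg x.2⟩) (by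
      intro x y
      refine Subtype.ext ?_
      change g * ((x : G) * y) * g⁻¹ = g * x * g⁻¹ * (g * y * g⁻¹)
      group)
    have hψ : Function.Injective ψ := by
      intro x y hxy
      have h1 : g * (x : G) * g⁻¹ = g * (y : G) * g⁻¹ := congrArg Subtype.val hxy
      exact Subtype.ext (mul_left_cancel (mul_right_cancel h1))
    have h1 : s.image ψ = s := by
      refine Finset.eq_of_subset_of_card_le ?_ (Finset.card_image_of_injective s hψ).ge
      intro x hx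
      obtain ⟨y, hy, rfl⟩ := Finset.mem_image.1 hx
      exact h y hy
    have h2 : ψ τ = τ := by
      change ψ (∏ x ∈ s, x) = ∏ x ∈ s, x
      rw [map_prod]
      conv_rhs => rw [← h1]
      rw [Finset.prod_image (fun x _ y _ h => hψ h)]
    exact congrArg Subtype.val h2
  refine ⟨τ, τ.2, ?_, ?_, ?_⟩
  · have h1 : ∏ x ∈ s, (x * (⟨a, ha⟩ : W)⁻¹) ∈ N.subgroupOf W := by
      refine Subgroup.prod_mem _ fun x hx => ?_
      obtain ⟨k, hk, e⟩ := (hs x).1 hx
      rw [mem_subgroupOf]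
      change (x : G) * a⁻¹ ∈ N
      rw [e]
      exact hK k hk
    rw [Finset.prod_mul_distrib, Finset.prod_const] at h1
    have h2 : Odd s.card := by
      rw [hcard, ← Nat.not_even_iff_odd, even_iff_two_dvd]
      exact hodd
    obtain ⟨m, hm⟩ := h2
    have h3 : ((⟨a, ha⟩ : W)⁻¹) ^ s.card = (⟨a, ha⟩ : W)⁻¹ := by
      have h4 : ((⟨a, ha⟩ : W)⁻¹) ^ 2 = 1 := by
        refine Subtype.ext ?_
        change (a⁻¹) ^ 2 = 1
        rw [inv_pow, ha2, inv_one]
      rw [hm, pow_succ, pow_mul, h4, one_pow, one_mul]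
    rw [h3] at h1
    exact mem_subgroupOf.1 h1
  · intro k hk
    refine hinv k (KW hk) fun x hx => (hs _).2 ?_
    obtain ⟨k', hk', e⟩ := (hs x).1 hx
    refine ⟨k * k', mul_mem hk hk', ?_⟩
    change k * (x : G) * k⁻¹ = _
    rw [e]; group
  · intro g hg hgK hga
    refine hinv g hg fun x hx => (hs _).2 ?_
    obtain ⟨k', hk', e⟩ := (hs x).1 hx
    refine ⟨g * k' * g⁻¹, nm hgK hk', ?_⟩
    change g * (x : G) * g⁻¹ = _
    have h3 : g⁻¹ * a * g = a := by
      calc g⁻¹ * a * g = g⁻¹ * (a * g) := by group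
        _ = g⁻¹ * (g * a) := by rw [hga]
        _ = a := by group
    rw [e]
    calc g * (k' * a * k'⁻¹) * g⁻¹ = g * k' * a * k'⁻¹ * g⁻¹ := by group
      _ = g * k' * (g⁻¹ * a * g) * k'⁻¹ * g⁻¹ := by rw [h3]
      _ = g * k' * g⁻¹ * a * (g * k' * g⁻¹)⁻¹ := by group

/-! ### (2) -/

namespace NV

variable [Finite G] {E b l Np Zc W B S T C K X0 L' : Subgroup G} {q : ℕ} (h : NV E b l Np Zc W B S T C K X0 L' q)
include h

theorem bW : b ≤ W := h.bl.trans h.lW

theorem SB : S ≤ B := fun x hx => ((h.Sm x).1 hx).1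

theorem Sl : S ≤ centralizer (l : Set G) := fun x hx => ((h.Sm x).1 hx).2

theorem W_cl : W ≤ centralizer (l : Set G) := fun x hx =>
  mem_centralizer_iff.2 fun y hy => h.Wc y (h.lW hy) x hx

theorem WS : W ≤ S := fun x hx => (h.Sm x).2 ⟨h.WB hx, h.W_cl hx⟩

theorem KW : K ≤ normalizer (W : Set G) := h.KC.trans h.CW

theorem BW : B ≤ normalizer (W : Set G) := h.BC.trans h.CW

theorem SW : S ≤ normalizer (W : Set G) := h.SB.trans h.BW

/-- a vector of `l` plus a vector of `Zc` fixed by `K` -/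
theorem K_cent (hno : ∀ s ∈ K, s ∈ normalizer (l : Set G) → s ∈ centralizer (l : Set G)) :
    K ≤ centralizer (l : Set G) := by
  have hsy := syl_inf h.sylT h.KC h.CK
  have hT : T ⊓ K ≤ centralizer (l : Set G) := fun t ht => hno t ht.2 (h.Tl ht.1)
  intro k hk
  refine mem_centralizer_iff.2 fun a ha => ?_
  have hodd : ¬ 2 ∣ (K ⊓ centralizer ({a} : Set G)).relIndex K := by
    intro h2
    refine syl_not_dvd hsy (h2.trans ?_)
    refine Subgroup.relIndex_dvd_of_le_left K (le_inf inf_le_right (hT.trans ?_))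
    exact centralizer_le (by simpa using ha)
  obtain ⟨τ, hτW, hτa, hτK, hτg⟩ := odd_orbit h.Wc h.KW (h.lW ha) (h.Wsq a (h.lW ha))
    (fun s hs => h.Kl s hs a ha) hodd
  -- `τ ∈ l Zc`
  have h1 : τ ∈ l ⊔ Zc := by
    refine h.zS τ (h.WS hτW) (h.Wsq τ hτW) (fun t ht => ?_) fun g hg => ?_
    · have h2 := hτg t (h.SW ht) (h.CK (h.BC (h.SB ht))) (cm' (h.Sl ht) ha)
      calc t * τ = t * τ * t⁻¹ * t := by group
        _ = τ * t := by rw [h2]
    · have h2 := hτg g (h.CW (h.L'C hg)) (h.CK (h.L'C hg)) (cm' (h.L'l hg) ha)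
      rw [h2, mul_inv_cancel]
      exact one_mem _
  obtain ⟨a', ha', z, hz, e⟩ := mem_sup_comm (fun x hx z hz => h.Wc x (h.lW hx) z (h.NW (h.ZcN hz))) h1
  have hz1 : k * z * k⁻¹ = z := by
    have := mem_centralizer_iff.1 (h.ZcC hz) k (h.KC hk)
    rw [this, mul_inv_cancel_right]
  have ha1 : k * a' * k⁻¹ = a' := by
    have h2 := hτK k hk
    rw [← e] at h2
    have h3 : k * a' * k⁻¹ * (k * z * k⁻¹) = a' * z := by rw [← h2]; group
    rw [hz1] at h3
    exact mul_right_cancel h3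
  -- `a' a⁻¹ ∈ b`
  have hb : a' * a⁻¹ ∈ b := by
    refine h.lN _ (mul_mem ha' (inv_mem ha)) ?_
    have h2 : a' * a⁻¹ = (τ * a⁻¹) * z⁻¹ := by
      rw [← e]
      have h3 := h.Wc _ (h.lW (inv_mem ha)) _ (h.NW (h.ZcN (inv_mem hz)))
      calc a' * a⁻¹ = a' * (z * z⁻¹) * a⁻¹ := by group
        _ = a' * z * (z⁻¹ * a⁻¹) := by group
        _ = a' * z * (a⁻¹ * z⁻¹) := by rw [h3]
        _ = a' * z * a⁻¹ * z⁻¹ := by group
    rw [h2]
    exact mul_mem hτa (inv_mem (h.ZcN hz))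
  have hb1 := cm (h.Cb (h.KC hk)) hb
  have ha2 : k * a * k⁻¹ = a := by
    have h2 : k * a' * k⁻¹ * (k * a⁻¹ * k⁻¹) = a' * a⁻¹ := by rw [← hb1]; group
    rw [ha1] at h2
    have h3 : k * a⁻¹ * k⁻¹ = a⁻¹ := mul_left_cancel h2
    calc k * a * k⁻¹ = (k * a⁻¹ * k⁻¹)⁻¹ := by group
      _ = a := by rw [h3, inv_inv]
  calc a * k = (k * a * k⁻¹) * k := by rw [ha2]
    _ = k * a := by group

/-- **(2)**: `K ∩ N(l)` moves `l`. -/
theorem exists_mv : ∃ s ∈ K, s ∈ normalizer (l : Set G) ∧ s ∉ centralizer (l : Set G) := by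
  by_contra hc
  push Not at hc
  exact h.done ((h.K_cent hc).trans (centralizer_le_normalizer _))

end NV

end Cfsg.Agent.Omega.TCQ.R.ThN
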